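import Cfsg.Agent.SQ1.QQuo
import Cfsg.Agent.MinSimple.PushUp

/-!
# Pushing up `SL₂(q)`-blocks, `q ≥ 4`: the graph argument in word form

`T` has index two in `A`, `B ⊴ A`, `L` is a block over `B` on `Y`.  If no nontrivial subgroup of `B` is
normalised by `L` and `A`, then `Y` does not commute with `Y^s`, `s ∈ A ∖ T`.
-/

set_option autoImplicit false
set_option linter.style.haveILetI false

namespace Cfsg.Agent.SQ1.PushUpQ

open Subgroup Cfsg.Agent.SQ1.QMod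
open Cfsg.Agent.MinSimple.PushUp (W W_mul_right W_mul_left W_cons W_inv)

variable {G : Type*} [Group G]

/-- The hypotheses. -/
structure DataQ (A T L B Q Y Z : Subgroup G) (s : G) : Prop where
  TA : T ≤ A
  sA : s ∈ A
  sT : s ∉ T
  idx : ∀ a ∈ A, a ∉ T → s⁻¹ * a ∈ T
  BT : B ≤ T
  BL : B ≤ L
  QB : Q ≤ B
  YQ : Y ≤ Q
  ZY : Z ≤ Y
  AnB : ∀ a ∈ A, ∀ b ∈ B, a * b * a⁻¹ ∈ B
  AnZ : ∀ a ∈ A, ∀ b ∈ Z, a * b * a⁻¹ ∈ Z
  TnY : ∀ t ∈ T, ∀ y ∈ Y, t * y * t⁻¹ ∈ Y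
  LnQ : ∀ l ∈ L, ∀ q ∈ Q, l * q * l⁻¹ ∈ Q
  LnY : ∀ l ∈ L, ∀ v ∈ Y, l * v * l⁻¹ ∈ Y
  BcZ : ∀ b ∈ B, ∀ y ∈ Z, b * y = y * b
  Ysq : ∀ v ∈ Y, v * v = 1
  QcY : ∀ b ∈ B, (∀ v ∈ Y, b * v = v * b) → b ∈ Q
  YcQ : ∀ q ∈ Q, ∀ v ∈ Y, q * v = v * q
  commZ : ∀ y ∈ Y, ∀ b ∈ B, y * b * y⁻¹ * b⁻¹ ∈ Z
  ncomm : ∀ v ∈ Y, v ∉ Z → ∀ b ∈ B, b ∉ Q → v * b ≠ b * v
  card : Nat.card B * Nat.card Z = Nat.card Y * Nat.card Q
  gen : ∀ l ∈ L, cjS l B ≠ B → ∀ H : Subgroup G, B ≤ H → cjS l B ≤ H → L ≤ H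
  ti : ∀ l ∈ L, cjS l B ≠ B → ∀ b ∈ B, b ∉ Q → cjS b (cjS l B) ≠ cjS l B
  tor : ∃ l ∈ L, cjS l B ≠ B ∧ ∃ k ∈ L, cjS k B = B ∧ cjS k (cjS l B) = cjS l B ∧
    ∀ m ∈ L, cjS m B ≠ B → cjS m B ≠ cjS l B → cjS k (cjS m B) ≠ cjS m B
  TnX : ∀ t ∈ T, ∀ y ∈ Y, (∀ l ∈ L, l * y = y * l) → ∀ l ∈ L, l * (t * y * t⁻¹) = (t * y * t⁻¹) * l
  core : ∀ R : Subgroup G, R ≤ B → (∀ l ∈ L, ∀ r ∈ R, l * r * l⁻¹ ∈ R) →
    (∀ a ∈ A, ∀ r ∈ R, a * r * a⁻¹ ∈ R) → R = ⊥
  Yne : Y ≠ ⊥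

/-- `Y` commutes with `Y ^ w`. -/
def Com (Y : Subgroup G) (w : G) : Prop := ∀ x ∈ Y, ∀ y ∈ cjS w Y, x * y = y * x

theorem conj_mem_cjS {X : Subgroup G} {x : G} (hx : x ∈ X) (g : G) : g * x * g⁻¹ ∈ cjS g X :=
  ⟨x, hx, rfl⟩

theorem cjS_mono {X X' : Subgroup G} (hX : X ≤ X') (g : G) : cjS g X ≤ cjS g X' := Subgroup.map_mono hX

theorem cjS_eq_of {K X : Subgroup G} (h : ∀ k ∈ K, ∀ x ∈ X, k * x * k⁻¹ ∈ X) {k : G} (hk : k ∈ K) :
    cjS k X = X := by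
  apply le_antisymm
  · rintro _ ⟨x, hx, rfl⟩
    exact h k hk x hx
  · intro x hx
    rw [mem_cjS]
    have := h k⁻¹ (inv_mem hk) x hx
    simpa using this

theorem cjS_sup (g : G) (X X' : Subgroup G) : cjS g (X ⊔ X') = cjS g X ⊔ cjS g X' := Subgroup.map_sup _ _ _

theorem cjS_inv_cjS (g : G) (X : Subgroup G) : cjS g⁻¹ (cjS g X) = X := by
  rw [← cjS_mul, inv_mul_cancel, cjS_one]

theorem cjS_cjS_inv (g : G) (X : Subgroup G) : cjS g (cjS g⁻¹ X) = X := by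
  rw [← cjS_mul, mul_inv_cancel, cjS_one]

theorem card_cjS (g : G) (X : Subgroup G) : Nat.card (cjS g X : Subgroup G) = Nat.card X :=
  Nat.card_congr (X.equivMapOfInjective _ (MulAut.conj g).injective).toEquiv.symm

theorem Com.inv {Y : Subgroup G} {w : G} (h : Com Y w) : Com Y w⁻¹ := by
  intro x hx y hy
  rw [mem_cjS, inv_inv] at hy
  have h1 := h _ hy _ (conj_mem_cjS hx w)
  have h2 : w * (y * x) * w⁻¹ = w * (x * y) * w⁻¹ := by
    calc w * (y * x) * w⁻¹ = (w * y * w⁻¹) * (w * x * w⁻¹) := by group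
      _ = (w * x * w⁻¹) * (w * y * w⁻¹) := h1
      _ = w * (x * y) * w⁻¹ := by group
  exact (mul_left_cancel (mul_right_cancel h2)).symm

theorem Com.of_eq {Y : Subgroup G} {w w' : G} (h : Com Y w) (e : cjS w Y = cjS w' Y) : Com Y w' := by
  intro x hx y hy
  rw [← e] at hy
  exact h x hx y hy

/-- `Y ^ g` and `Y ^ k` commute if `Y` and `Y ^ (g⁻¹ k)` do. -/
theorem Com.conj {Y : Subgroup G} {g k : G} (h : Com Y (g⁻¹ * k)) {x y : G} (hx : x ∈ cjS g Y)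
    (hy : y ∈ cjS k Y) : x * y = y * x := by
  rw [mem_cjS] at hx
  have hy' : g⁻¹ * y * g ∈ cjS (g⁻¹ * k) Y := by
    rw [cjS_mul, mem_cjS]
    have e : g⁻¹⁻¹ * (g⁻¹ * y * g) * g⁻¹ = y := by group
    rw [e]; exact hy
  have h1 := h _ hx _ hy'
  have h2 : g⁻¹ * (x * y) * g = g⁻¹ * (y * x) * g := by
    calc g⁻¹ * (x * y) * g = (g⁻¹ * x * g) * (g⁻¹ * y * g) := by group
      _ = (g⁻¹ * y * g) * (g⁻¹ * x * g) := h1
      _ = _ := by group
  exact mul_left_cancel (mul_right_cancel h2)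

/-- Counting: `B = U Q`. -/
theorem exists_mul {U V Q B : Subgroup G} [Finite B] (hUB : U ≤ B) (hQB : Q ≤ B) (hVU : V ≤ U)
    (hinf : ∀ x ∈ U, x ∈ Q → x ∈ V) (hcard : Nat.card B * Nat.card V = Nat.card U * Nat.card Q) {b : G}
    (hb : b ∈ B) : ∃ u ∈ U, ∃ q ∈ Q, b = u * q := by
  classical
  haveI : Finite U := Finite.of_injective _ (Subgroup.inclusion_injective hUB)
  haveI : Finite Q := Finite.of_injective _ (Subgroup.inclusion_injective hQB)
  haveI : Finite V := Finite.of_injective _ (Subgroup.inclusion_injective hVU)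
  let ψ : (U ⧸ V.subgroupOf U) → (B ⧸ Q.subgroupOf B) := fun x => QuotientGroup.mk ⟨x.out, hUB x.out.2⟩
  have hinj : Function.Injective ψ := by
    intro x y hxy
    have h1 : (⟨x.out, hUB x.out.2⟩ : B)⁻¹ * ⟨y.out, hUB y.out.2⟩ ∈ Q.subgroupOf B := QuotientGroup.eq.1 hxy
    have h1 : (x.out : G)⁻¹ * (y.out : G) ∈ Q := h1
    have h2 : (x.out : G)⁻¹ * (y.out : G) ∈ V := hinf _ (mul_mem (inv_mem x.out.2) y.out.2) h1
    have h3 : (QuotientGroup.mk x.out : U ⧸ V.subgroupOf U) = QuotientGroup.mk y.out := by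
      rw [QuotientGroup.eq]; exact h2
    rwa [QuotientGroup.out_eq', QuotientGroup.out_eq'] at h3
  have hU : Nat.card (U ⧸ V.subgroupOf U) * Nat.card V = Nat.card U := by
    have := (V.subgroupOf U).card_eq_card_quotient_mul_card_subgroup
    rw [this, Nat.card_congr (subgroupOfEquivOfLe hVU).toEquiv]
  have hB : Nat.card (B ⧸ Q.subgroupOf B) * Nat.card Q = Nat.card B := by
    have := (Q.subgroupOf B).card_eq_card_quotient_mul_card_subgroup
    rw [this, Nat.card_congr (subgroupOfEquivOfLe hQB).toEquiv]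
  have hVpos : 0 < Nat.card V := Nat.card_pos
  have hQpos : 0 < Nat.card Q := Nat.card_pos
  have hc : Nat.card (U ⧸ V.subgroupOf U) = Nat.card (B ⧸ Q.subgroupOf B) := by
    rw [← hU, ← hB] at hcard
    have h1 : Nat.card (B ⧸ Q.subgroupOf B) * (Nat.card Q * Nat.card V) =
        Nat.card (U ⧸ V.subgroupOf U) * (Nat.card Q * Nat.card V) := by
      calc _ = Nat.card (B ⧸ Q.subgroupOf B) * Nat.card Q * Nat.card V := by ring
        _ = _ := hcard
        _ = _ := by ring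
    exact (Nat.eq_of_mul_eq_mul_right (Nat.mul_pos hQpos hVpos) h1).symm
  have hbij : Function.Bijective ψ := (Nat.bijective_iff_injective_and_card ψ).2 ⟨hinj, hc⟩
  obtain ⟨x, hx⟩ := hbij.2 (QuotientGroup.mk ⟨b, hb⟩)
  have h1 : (⟨x.out, hUB x.out.2⟩ : B)⁻¹ * ⟨b, hb⟩ ∈ Q.subgroupOf B := QuotientGroup.eq.1 hx
  have h1 : (x.out : G)⁻¹ * b ∈ Q := h1
  exact ⟨x.out, x.out.2, _, h1, by group⟩

/-- The commutator subgroup `[Y, B]`. -/
def DD (Y B : Subgroup G) : Subgroup G :=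
  closure {x | ∃ y ∈ Y, ∃ b ∈ B, x = y * b * y⁻¹ * b⁻¹}

theorem mem_DD {Y B : Subgroup G} {y b : G} (hy : y ∈ Y) (hb : b ∈ B) : y * b * y⁻¹ * b⁻¹ ∈ DD Y B :=
  subset_closure ⟨y, hy, b, hb, rfl⟩

/-- A critical word. -/
structure Crit (A L Y : Subgroup G) (n : ℕ) (w : G) : Prop where
  hc : ∀ m < n, ∀ w ∈ W A L m, Com Y w
  mem : w ∈ W A L n
  ncom : ¬ Com Y w

theorem Crit.inv {A L Y : Subgroup G} {n : ℕ} {w : G} (c : Crit A L Y n w) : Crit A L Y n w⁻¹ :=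
  ⟨c.hc, W_inv c.mem, fun h1 => c.ncom (by simpa using h1.inv)⟩

variable {A T L B Q Y Z : Subgroup G} {s : G}

namespace DataQ

variable (h : DataQ A T L B Q Y Z s)

include h

theorem YB : Y ≤ B := h.YQ.trans h.QB

theorem ss : s * s ∈ T := by
  by_contra hcon
  have := h.idx _ (mul_mem h.sA h.sA) hcon
  rw [inv_mul_cancel_left] at this
  exact h.sT this

theorem sTs {t : G} (ht : t ∈ T) : s * t * s⁻¹ ∈ T := by
  by_contra hcon
  have h1 := h.idx _ (mul_mem (mul_mem h.sA (h.TA ht)) (inv_mem h.sA)) hcon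
  have e : s⁻¹ * (s * t * s⁻¹) = t * s⁻¹ := by group
  rw [e] at h1
  have h2 := (Subgroup.mul_mem_cancel_left T ht).1 h1
  exact h.sT (by simpa using inv_mem h2)

theorem sTs' {t : G} (ht : t ∈ T) : s⁻¹ * t * s ∈ T := by
  have h1 := h.sTs ht
  have h2 := h.ss
  have e : s⁻¹ * t * s = (s * s)⁻¹ * (s * t * s⁻¹) * (s * s) := by group
  rw [e]
  exact mul_mem (mul_mem (inv_mem h2) h1) h2

theorem cB {a : G} (ha : a ∈ A) : cjS a B = B := cjS_eq_of h.AnB ha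

theorem cZ {a : G} (ha : a ∈ A) : cjS a Z = Z := cjS_eq_of h.AnZ ha

theorem cYT {t : G} (ht : t ∈ T) : cjS t Y = Y := cjS_eq_of h.TnY ht

theorem cYL {l : G} (hl : l ∈ L) : cjS l Y = Y := cjS_eq_of h.LnY hl

theorem cQL {l : G} (hl : l ∈ L) : cjS l Q = Q := cjS_eq_of h.LnQ hl

theorem TnQ : ∀ t ∈ T, ∀ q ∈ Q, t * q * t⁻¹ ∈ Q := by
  intro t ht q hq
  apply h.QcY _ (h.AnB t (h.TA ht) q (h.QB hq))
  intro v hv
  have h1 := h.TnY t⁻¹ (inv_mem ht) v hv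
  have h2 := h.YcQ q hq _ h1
  rw [inv_inv] at h2
  calc t * q * t⁻¹ * v = t * (q * (t⁻¹ * v * t)) * t⁻¹ := by group
    _ = t * ((t⁻¹ * v * t) * q) * t⁻¹ := by rw [h2]
    _ = v * (t * q * t⁻¹) := by group

theorem cQT {t : G} (ht : t ∈ T) : cjS t Q = Q := cjS_eq_of h.TnQ ht

theorem Ycomm {x y : G} (hx : x ∈ Y) (hy : y ∈ Y) : x * y = y * x := h.YcQ x (h.YQ hx) y hy

theorem cYs (w : G) : cjS (w * s⁻¹) Y = cjS (w * s) Y := by
  have e : w * s⁻¹ = w * s * (s * s)⁻¹ := by group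
  rw [e, cjS_mul (w * s), h.cYT (inv_mem h.ss)]

/-- All shorter words commute: membership. -/
theorem memB {n : ℕ} (hc : ∀ m < n, ∀ w ∈ W A L m, Com Y w) {m : ℕ} (hm : m ≤ n) {w : G}
    (hw : w ∈ W A L m) : Y ≤ cjS w B := by
  induction m generalizing w with
  | zero =>
    rw [h.cB hw]; exact h.YB
  | succ m ih =>
    obtain ⟨w', hw', l, hl, a, ha, rfl⟩ := hw
    have h1 := ih (by omega) hw'
    have h2 : Y ≤ cjS w' Q := by
      intro y hy
      rw [mem_cjS]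
      have h3 := h1 hy
      rw [mem_cjS] at h3
      apply h.QcY _ h3
      intro v hv
      have h4 := hc m (by omega) w' hw' y hy _ (conj_mem_cjS hv w')
      calc w'⁻¹ * y * w' * v = w'⁻¹ * (y * (w' * v * w'⁻¹)) * w' := by group
        _ = w'⁻¹ * ((w' * v * w'⁻¹) * y) * w' := by rw [h4]
        _ = v * (w'⁻¹ * y * w') := by group
    have h3 : cjS (w' * l * a) B = cjS (w' * l) B := by rw [cjS_mul, h.cB ha]
    rw [h3, cjS_mul]
    refine h2.trans (cjS_mono ?_ _)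
    rw [← h.cQL hl]
    exact cjS_mono h.QB l

theorem memB' {n : ℕ} (hc : ∀ m < n, ∀ w ∈ W A L m, Com Y w) {m : ℕ} (hm : m ≤ n) {w : G}
    (hw : w ∈ W A L m) : cjS w Y ≤ B := by
  have h1 := h.memB hc hm (W_inv hw)
  have h2 := cjS_mono h1 w
  rwa [cjS_cjS_inv] at h2

theorem DDZ : DD Y B ≤ Z := by
  rw [DD, closure_le]
  rintro x ⟨y, hy, b, hb, rfl⟩
  exact h.commZ y hy b hb

theorem DDT {t : G} (ht : t ∈ T) : cjS t (DD Y B) = DD Y B := by
  refine cjS_eq_of (K := T) ?_ ht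
  intro k hk x hx
  have hle : DD Y B ≤ (DD Y B).comap (MulAut.conj k).toMonoidHom := by
    rw [DD, closure_le]
    rintro x ⟨y, hy, b, hb, rfl⟩
    change k * (y * b * y⁻¹ * b⁻¹) * k⁻¹ ∈ DD Y B
    have e : k * (y * b * y⁻¹ * b⁻¹) * k⁻¹ = (k * y * k⁻¹) * (k * b * k⁻¹) * (k * y * k⁻¹)⁻¹ * (k * b * k⁻¹)⁻¹ := by
      group
    rw [e]
    exact mem_DD (h.TnY k hk y hy) (h.AnB k (h.TA hk) b hb)
  exact hle hx

section crit

variable {n : ℕ} {w : G} (c : Crit A L Y n w)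

include c

theorem crit_le : Y ≤ cjS w B := h.memB c.hc le_rfl c.mem

theorem crit_le' : cjS w Y ≤ B := h.memB' c.hc le_rfl c.mem

theorem crit_exists : ∃ u ∈ cjS w Y, u ∉ Q := by
  by_contra hcon
  push Not at hcon
  apply c.ncom
  intro x hx y hy
  exact (h.YcQ y (hcon y hy) x hx).symm

/-- `C_Y(Y^w) = Z`. -/
theorem crit_Z {x : G} (hx : x ∈ Y) (hxc : ∀ u ∈ cjS w Y, x * u = u * x) : x ∈ Z := by
  by_contra hxZ
  obtain ⟨u, hu, huQ⟩ := h.crit_exists c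
  exact h.ncomm x hx hxZ u (h.crit_le' c hu) huQ (hxc u hu)

/-- `C_{Y^w}(Y) = Z^w`. -/
theorem crit_Z' {x : G} (hx : x ∈ cjS w Y) (hxc : ∀ u ∈ Y, x * u = u * x) : x ∈ cjS w Z := by
  rw [mem_cjS] at hx ⊢
  refine h.crit_Z (Crit.inv c) hx ?_
  intro u hu
  rw [mem_cjS, inv_inv] at hu
  have h1 := hxc _ hu
  calc w⁻¹ * x * w * u = w⁻¹ * (x * (w * u * w⁻¹)) * w := by group
    _ = w⁻¹ * ((w * u * w⁻¹) * x) * w := by rw [h1]
    _ = u * (w⁻¹ * x * w) := by group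

/-- `B = Y^w Q`. -/
theorem crit_mul [Finite G] {b : G} (hb : b ∈ B) : ∃ u ∈ cjS w Y, ∃ q ∈ Q, b = u * q := by
  refine exists_mul (V := cjS w Z) (h.crit_le' c) h.QB (cjS_mono h.ZY w) ?_ ?_ hb
  · intro x hx hxQ
    exact h.crit_Z' c hx (fun u hu => h.YcQ x hxQ u hu)
  · rw [card_cjS, card_cjS]; exact h.card

/-- `[Y, B] ≤ [Y^w, B^w]`. -/
theorem crit_D_le [Finite G] : DD Y B ≤ cjS w (DD Y B) := by
  rw [DD, closure_le]
  rintro x ⟨y, hy, b, hb, rfl⟩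
  obtain ⟨u, hu, q, hq, rfl⟩ := h.crit_mul c hb
  have h1 : q * y⁻¹ = y⁻¹ * q := h.YcQ q hq y⁻¹ (inv_mem hy)
  have h2 : y * (u * q) * y⁻¹ * (u * q)⁻¹ = (u * y * u⁻¹ * y⁻¹)⁻¹ := by
    calc y * (u * q) * y⁻¹ * (u * q)⁻¹ = y * u * (q * y⁻¹) * q⁻¹ * u⁻¹ := by group
      _ = y * u * (y⁻¹ * q) * q⁻¹ * u⁻¹ := by rw [h1]
      _ = (u * y * u⁻¹ * y⁻¹)⁻¹ := by group
  change y * (u * q) * y⁻¹ * (u * q)⁻¹ ∈ cjS w (DD Y B)
  rw [h2]
  apply inv_mem
  rw [mem_cjS]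
  have hy' := h.crit_le c hy
  rw [mem_cjS] at hu hy'
  have e : w⁻¹ * (u * y * u⁻¹ * y⁻¹) * w = (w⁻¹ * u * w) * (w⁻¹ * y * w) * (w⁻¹ * u * w)⁻¹ * (w⁻¹ * y * w)⁻¹ := by
    group
  rw [e]
  exact mem_DD hu hy'

theorem crit_D [Finite G] : cjS w (DD Y B) = DD Y B := by
  apply le_antisymm
  · have h1 := cjS_mono (h.crit_D_le (Crit.inv c)) w
    rwa [cjS_cjS_inv] at h1
  · exact h.crit_D_le c

end crit

/-! ### Nonexistence of invariant subgroups -/

theorem L_le_of {l : G} (hl : l ∈ L) (hlB : cjS l B ≠ B) {X : Subgroup G} (h1 : B ≤ X) (h2 : cjS l B ≤ X) :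
    L ≤ X := h.gen l hl hlB X h1 h2

/-- `Y Y^s` is not normalised by `L`. -/
theorem not_norm (hL : ∀ l ∈ L, ∀ r ∈ Y ⊔ cjS s Y, l * r * l⁻¹ ∈ Y ⊔ cjS s Y) : False := by
  apply h.Yne
  have hsY : cjS s Y ≤ B := by
    rw [← h.cB h.sA]
    exact cjS_mono h.YB s
  have h1 : Y ⊔ cjS s Y = ⊥ := by
    refine h.core _ (sup_le h.YB hsY) hL ?_
    have hT : ∀ t ∈ T, cjS t (Y ⊔ cjS s Y) ≤ Y ⊔ cjS s Y := by
      intro t ht
      rw [cjS_sup]
      refine sup_le ?_ ?_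
      · exact (h.cYT ht).le.trans le_sup_left
      · refine le_trans (le_of_eq ?_) le_sup_right
        rw [← cjS_mul]
        have e : t * s = s * (s⁻¹ * t * s) := by group
        rw [e, cjS_mul, h.cYT (h.sTs' ht)]
    have hs : cjS s (Y ⊔ cjS s Y) ≤ Y ⊔ cjS s Y := by
      rw [cjS_sup]
      refine sup_le le_sup_right ?_
      refine le_trans (le_of_eq ?_) le_sup_left
      rw [← cjS_mul, h.cYT h.ss]
    intro a ha r hr
    by_cases haT : a ∈ T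
    · exact hT a haT (conj_mem_cjS hr a)
    · have h2 := h.idx a ha haT
      have h3 := hT _ h2 (conj_mem_cjS hr _)
      have h4 := hs (conj_mem_cjS h3 s)
      have e : s * (s⁻¹ * a * r * (s⁻¹ * a)⁻¹) * s⁻¹ = a * r * a⁻¹ := by group
      rwa [e] at h4
  exact le_bot_iff.1 (le_sup_left.trans h1.le)

section step

variable [Finite G] {n : ℕ}

/-- The extension step (2.2). -/
theorem step (hn : n ≠ 0) {w₁ l₁ a : G} (c : Crit A L Y n (w₁ * l₁ * a)) (hw₁ : w₁ ∈ W A L (n - 1))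
    (hl₁ : l₁ ∈ L) (ha : a ∈ A) {l : G} (hl : l ∈ L) (hlB : cjS l B ≠ B) :
    ¬ Com Y (s⁻¹ * l⁻¹ * w₁) := by
  intro hcom
  have hmem : s⁻¹ * l⁻¹ * w₁ ∈ W A L n := by
    have := W_cons hw₁ (L.inv_mem hl) (A.inv_mem h.sA)
    have e : n - 1 + 1 = n := by omega
    rwa [e] at this
  -- `Y^{ls} ≤ Q^{w₁}`
  have h1 : cjS (l * s) Y ≤ cjS w₁ B := by
    have h2 := cjS_mono (h.memB c.hc le_rfl hmem) (l * s)
    rw [← cjS_mul] at h2
    have e : l * s * (s⁻¹ * l⁻¹ * w₁) = w₁ := by group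
    rwa [e] at h2
  have h2 : cjS (l * s) Y ≤ cjS w₁ Q := by
    intro y hy
    have h3 := h1 hy
    rw [mem_cjS] at h3 ⊢
    apply h.QcY _ h3
    intro v hv
    have h4 : y * (w₁ * v * w₁⁻¹) = (w₁ * v * w₁⁻¹) * y := by
      refine Com.conj (Y := Y) (g := l * s) (k := w₁) ?_ hy (conj_mem_cjS hv w₁)
      have e : (l * s)⁻¹ * w₁ = s⁻¹ * l⁻¹ * w₁ := by group
      rw [e]; exact hcom
    calc w₁⁻¹ * y * w₁ * v = w₁⁻¹ * (y * (w₁ * v * w₁⁻¹)) * w₁ := by group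
      _ = w₁⁻¹ * ((w₁ * v * w₁⁻¹) * y) * w₁ := by rw [h4]
      _ = v * (w₁⁻¹ * y * w₁) := by group
  have h3 : cjS (l * s) Y ≤ cjS (w₁ * l₁ * a) B := by
    rw [cjS_mul _ a, h.cB ha, cjS_mul w₁]
    refine h2.trans (cjS_mono ?_ _)
    rw [← h.cQL hl₁]
    exact cjS_mono h.QB l₁
  -- `R₁ = Y Y^{ls}` is normalised by `B` and `B^l`
  set R := Y ⊔ cjS (l * s) Y with hR
  have hBl : cjS l B = cjS (l * s) B := by rw [cjS_mul, h.cB h.sA]
  have hBBl : cjS l B ≤ normalizer (R : Set G) := by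
    rw [le_normalizer_iff]
    intro b hb r hr
    have hbL : b ∈ L := by
      rw [mem_cjS] at hb
      have := mul_mem (mul_mem hl (h.BL hb)) (inv_mem hl)
      have e : l * (l⁻¹ * b * l) * l⁻¹ = b := by group
      rwa [e] at this
    have hle : cjS b R ≤ R := by
      rw [hR, cjS_sup]
      refine sup_le ((h.cYL hbL).le.trans le_sup_left) (le_trans (le_of_eq ?_) le_sup_right)
      rw [← cjS_mul]
      rw [hBl, mem_cjS] at hb
      have e : b * (l * s) = l * s * ((l * s)⁻¹ * b * (l * s)) := by group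
      rw [e, cjS_mul, h.cYT (h.BT hb)]
    exact hle (conj_mem_cjS hr b)
  have hB : B ≤ normalizer (R : Set G) := by
    rw [le_normalizer_iff]
    intro b hb
    obtain ⟨u, hu, q, hq, rfl⟩ := h.crit_mul c hb
    have hqN : q ∈ normalizer (R : Set G) := by
      apply hBBl
      rw [mem_cjS]
      have := h.LnQ l⁻¹ (inv_mem hl) q hq
      rw [inv_inv] at this
      exact h.QB this
    -- `u` normalises
    have hu' : ∀ r ∈ R, u * r * u⁻¹ ∈ R := by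
      have hle : R ≤ R.comap (MulAut.conj u).toMonoidHom := by
        rw [hR]
        refine sup_le ?_ ?_
        · intro y hy
          change u * y * u⁻¹ ∈ Y ⊔ cjS (l * s) Y
          exact (le_sup_left : Y ≤ Y ⊔ cjS (l * s) Y) (h.LnY u (h.BL (h.crit_le' c hu)) y hy)
        · intro x hx
          change u * x * u⁻¹ ∈ Y ⊔ cjS (l * s) Y
          have hxB := h3 hx
          have h5 : u * x * u⁻¹ * x⁻¹ ∈ DD Y B := by
            rw [← h.crit_D c, mem_cjS]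
            rw [mem_cjS] at hu hxB
            have e : (w₁ * l₁ * a)⁻¹ * (u * x * u⁻¹ * x⁻¹) * (w₁ * l₁ * a) =
              ((w₁ * l₁ * a)⁻¹ * u * (w₁ * l₁ * a)) * ((w₁ * l₁ * a)⁻¹ * x * (w₁ * l₁ * a)) *
              ((w₁ * l₁ * a)⁻¹ * u * (w₁ * l₁ * a))⁻¹ * ((w₁ * l₁ * a)⁻¹ * x * (w₁ * l₁ * a))⁻¹ := by group
            rw [e]
            exact mem_DD hu hxB
          have h6 : u * x * u⁻¹ = (u * x * u⁻¹ * x⁻¹) * x := by group
          rw [h6]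
          exact mul_mem ((le_sup_left : Y ≤ Y ⊔ cjS (l * s) Y) (h.ZY (h.DDZ h5)))
            ((le_sup_right : cjS (l * s) Y ≤ Y ⊔ cjS (l * s) Y) hx)
      exact fun r hr => hle hr
    intro r hr
    have h7 := hu' _ ((mem_normalizer_iff.1 hqN r).1 hr)
    have e : u * (q * r * q⁻¹) * u⁻¹ = u * q * r * (u * q)⁻¹ := by group
    rwa [e] at h7
  have hLR : L ≤ normalizer (R : Set G) := h.L_le_of hl hlB hB hBBl
  -- transport by `l⁻¹`
  have hRs : R = Y ⊔ cjS s Y := by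
    have h8 : cjS l⁻¹ R = R := by
      refine cjS_eq_of (K := L) (fun k hk x hx => (mem_normalizer_iff.1 (hLR hk) x).1 hx) (inv_mem hl)
    rw [← h8, hR, cjS_sup, h.cYL (inv_mem hl), ← cjS_mul, inv_mul_cancel_left]
  apply h.not_norm
  intro k hk r hr
  rw [← hRs] at hr ⊢
  exact (mem_normalizer_iff.1 (hLR hk) r).1 hr

/-- Lemma C: the powers of `y = s⁻¹ l⁻¹` are critical. -/
theorem crit_pow (hn : n ≠ 0) {w : G} (c : Crit A L Y n w) {l : G} (hl : l ∈ L) (hlB : cjS l B ≠ B) :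
    Crit A L Y n ((s⁻¹ * l⁻¹) ^ n * s⁻¹) := by
  have hsi := A.inv_mem h.sA
  have hli := L.inv_mem hl
  -- words
  have hpow : ∀ k j : ℕ, ∀ u ∈ W A L j, (s⁻¹ * l⁻¹) ^ k * u ∈ W A L (k + j) := by
    intro k
    induction k with
    | zero => intro j u hu; simpa using hu
    | succ k ih =>
      intro j u hu
      have h1 := W_cons (ih j u hu) hli hsi
      rw [show k + 1 + j = k + j + 1 by ring]
      have e : (s⁻¹ * l⁻¹) ^ (k + 1) * u = s⁻¹ * l⁻¹ * ((s⁻¹ * l⁻¹) ^ k * u) := by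
        rw [pow_succ', mul_assoc (s⁻¹ * l⁻¹)]
      rw [e]; exact h1
  have key : ∀ j ≤ n, ∃ u ∈ W A L (n - j), ¬ Com Y ((s⁻¹ * l⁻¹) ^ j * u) := by
    intro j
    induction j with
    | zero => intro _; exact ⟨w, c.mem, by simpa using c.ncom⟩
    | succ j ih =>
      intro hj
      obtain ⟨u, hu, hnc⟩ := ih (by omega)
      have e1 : n - j = (n - (j + 1)) + 1 := by omega
      rw [e1] at hu
      obtain ⟨u', hu', l', hl', a', ha', rfl⟩ := hu
      refine ⟨u', hu', ?_⟩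
      have hw₁ : (s⁻¹ * l⁻¹) ^ j * u' ∈ W A L (n - 1) := by
        have := hpow j _ u' hu'
        have e2 : j + (n - (j + 1)) = n - 1 := by omega
        rwa [e2] at this
      have hmem : (s⁻¹ * l⁻¹) ^ j * u' * l' * a' ∈ W A L n := by
        have e3 : n - 1 + 1 = n := by omega
        rw [← e3]
        exact ⟨_, hw₁, l', hl', a', ha', rfl⟩
      have e4 : (s⁻¹ * l⁻¹) ^ j * (u' * l' * a') = (s⁻¹ * l⁻¹) ^ j * u' * l' * a' := by
        simp only [mul_assoc]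
      rw [e4] at hnc
      have h2 := h.step hn ⟨c.hc, hmem, hnc⟩ hw₁ hl' ha' hl hlB
      have e5 : s⁻¹ * l⁻¹ * ((s⁻¹ * l⁻¹) ^ j * u') = (s⁻¹ * l⁻¹) ^ (j + 1) * u' := by
        rw [pow_succ']; simp only [mul_assoc]
      rwa [e5] at h2
  obtain ⟨a, ha, hnc⟩ := key n le_rfl
  rw [Nat.sub_self] at ha
  have ha' : a ∈ A := ha
  have hmem := hpow n 0 s⁻¹ hsi
  rw [add_zero] at hmem
  refine ⟨c.hc, hmem, ?_⟩
  have hYl : ∀ g : G, cjS (g * l⁻¹) Y = cjS g Y := by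
    intro g
    rw [cjS_mul, h.cYL hli]
  by_cases haT : a ∈ T
  · exfalso
    apply hnc
    have h1 : cjS ((s⁻¹ * l⁻¹) ^ n * a) Y = cjS ((s⁻¹ * l⁻¹) ^ (n - 1) * s⁻¹) Y := by
      rw [cjS_mul, h.cYT haT]
      obtain ⟨k, rfl⟩ := Nat.exists_eq_succ_of_ne_zero hn
      rw [Nat.succ_eq_add_one, Nat.add_sub_cancel, pow_succ, ← mul_assoc, hYl]
    have h2 := hpow (n - 1) 0 s⁻¹ hsi
    rw [add_zero] at h2
    exact (c.hc (n - 1) (by omega) _ h2).of_eq h1.symm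
  · intro h1
    apply hnc
    refine h1.of_eq ?_
    have h2 := h.idx a ha' haT
    rw [h.cYs]
    have e : a = s * (s⁻¹ * a) := by group
    conv_rhs => rw [e, ← mul_assoc, cjS_mul, h.cYT h2]

end step

section lemD

variable [Finite G] {n : ℕ} (hn : n ≠ 0) {w : G} (c : Crit A L Y n w)

include hn c

/-- Lemma D: `[Y, B]^s` is centralised by `L`. -/
theorem central : ∀ k ∈ L, ∀ d ∈ cjS s (DD Y B), k * d = d * k := by
  obtain ⟨l, hl, hlB, -⟩ := h.tor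
  have hli := L.inv_mem hl
  have c' := h.crit_pow hn c hl hlB
  set y := s⁻¹ * l⁻¹ with hy
  -- `R = [Y, B]^{y⁻¹}`
  have hRl : cjS (l * s) (DD Y B) = cjS l (cjS s (DD Y B)) := cjS_mul _ _ _
  have hLR : L ≤ centralizer (cjS (l * s) (DD Y B) : Set G) := by
    refine h.L_le_of hl hlB ?_ ?_
    · -- `B = Y^w Q`
      intro b hb
      obtain ⟨u, hu, q, hq, rfl⟩ := h.crit_mul c' hb
      apply mul_mem
      · rw [mem_centralizer_iff]
        intro d hd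
        have h1 : cjS (l * s) (DD Y B) ≤ cjS (y ^ (n - 1) * s⁻¹) Y := by
          have h2 : cjS (l * s) (cjS (y ^ n * s⁻¹) (DD Y B)) = cjS (l * s) (DD Y B) := by rw [h.crit_D c']
          rw [← h2, ← cjS_mul]
          have e : l * s * (y ^ n * s⁻¹) = y ^ (n - 1) * s⁻¹ := by
            obtain ⟨k, rfl⟩ := Nat.exists_eq_succ_of_ne_zero hn
            rw [Nat.succ_eq_add_one, Nat.add_sub_cancel, pow_succ']
            have e0 : l * s * y = 1 := by rw [hy]; group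
            calc l * s * (y * y ^ k * s⁻¹) = (l * s * y) * (y ^ k * s⁻¹) := by simp only [mul_assoc]
              _ = y ^ k * s⁻¹ := by rw [e0, one_mul]
          rw [e]
          exact cjS_mono (h.DDZ.trans h.ZY) _
        have h3 := h1 hd
        -- `Y^{y^n}` and `Y^{y^n s⁻¹}` commute
        refine Com.conj (Y := Y) (g := y ^ (n - 1) * s⁻¹) (k := y ^ n * s⁻¹) ?_ h3 hu
        have e : (y ^ (n - 1) * s⁻¹)⁻¹ * (y ^ n * s⁻¹) = l⁻¹ * s⁻¹ := by
          obtain ⟨k, rfl⟩ := Nat.exists_eq_succ_of_ne_zero hn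
          rw [Nat.succ_eq_add_one, Nat.add_sub_cancel, pow_succ, mul_inv_rev, inv_inv, hy]
          group
        rw [e]
        -- `Com Y (l⁻¹ s⁻¹)`
        have h4 : Com Y s⁻¹ := c.hc 0 (Nat.pos_of_ne_zero hn) s⁻¹ (A.inv_mem h.sA)
        intro x hx z hz
        rw [cjS_mul, mem_cjS] at hz
        have h5 := h4 (l⁻¹⁻¹ * x * l⁻¹) (by
          have := h.LnY l hl x hx
          rw [inv_inv]; exact this) _ hz
        have h6 : l * (x * z) * l⁻¹ = l * (z * x) * l⁻¹ := by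
          calc l * (x * z) * l⁻¹ = (l⁻¹⁻¹ * x * l⁻¹) * (l⁻¹⁻¹ * z * l⁻¹) := by group
            _ = (l⁻¹⁻¹ * z * l⁻¹) * (l⁻¹⁻¹ * x * l⁻¹) := h5
            _ = l * (z * x) * l⁻¹ := by group
        exact mul_left_cancel (mul_right_cancel h6)
      · rw [mem_centralizer_iff]
        intro d hd
        have hd' : d ∈ cjS (l * s) (DD Y B) := hd
        rw [mem_cjS] at hd'
        have h1 := h.DDZ hd'
        have h2 : (l * s)⁻¹ * q * (l * s) ∈ B := by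
          have h3 := h.QB (h.LnQ l⁻¹ hli q hq)
          rw [inv_inv] at h3
          have h4 := h.AnB s⁻¹ (A.inv_mem h.sA) _ h3
          rw [inv_inv] at h4
          have e : s⁻¹ * (l⁻¹ * q * l) * s = (l * s)⁻¹ * q * (l * s) := by group
          rwa [e] at h4
        have h5 := h.BcZ _ h2 _ h1
        have h6 : (l * s)⁻¹ * (q * d) * (l * s) = (l * s)⁻¹ * (d * q) * (l * s) := by
          calc (l * s)⁻¹ * (q * d) * (l * s) = ((l * s)⁻¹ * q * (l * s)) * ((l * s)⁻¹ * d * (l * s)) := by group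
            _ = ((l * s)⁻¹ * d * (l * s)) * ((l * s)⁻¹ * q * (l * s)) := h5
            _ = _ := by group
        exact (mul_left_cancel (mul_right_cancel h6)).symm
    · intro b hb
      rw [mem_centralizer_iff]
      intro d hd
      have hd' : d ∈ cjS (l * s) (DD Y B) := hd
      rw [mem_cjS] at hd'
      have h1 := h.DDZ hd'
      have h2 : (l * s)⁻¹ * b * (l * s) ∈ B := by
        rw [mem_cjS] at hb
        have h4 := h.AnB s⁻¹ (A.inv_mem h.sA) _ hb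
        rw [inv_inv] at h4
        have e : s⁻¹ * (l⁻¹ * b * l) * s = (l * s)⁻¹ * b * (l * s) := by group
        rwa [e] at h4
      have h5 := h.BcZ _ h2 _ h1
      have h6 : (l * s)⁻¹ * (b * d) * (l * s) = (l * s)⁻¹ * (d * b) * (l * s) := by
        calc (l * s)⁻¹ * (b * d) * (l * s) = ((l * s)⁻¹ * b * (l * s)) * ((l * s)⁻¹ * d * (l * s)) := by group
          _ = ((l * s)⁻¹ * d * (l * s)) * ((l * s)⁻¹ * b * (l * s)) := h5
          _ = _ := by group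
      exact (mul_left_cancel (mul_right_cancel h6)).symm
  intro k hk d hd
  -- `d = l⁻¹ (l d l⁻¹) l`
  have h1 : l * d * l⁻¹ ∈ cjS (l * s) (DD Y B) := by
    rw [hRl]; exact conj_mem_cjS hd l
  have h2 : l * (l * d * l⁻¹) = (l * d * l⁻¹) * l := ((mem_centralizer_iff.1 (hLR hl)) _ h1).symm
  have h3 : l * d * l⁻¹ = d := by
    have h4 : l * d * l⁻¹ = l⁻¹ * (l * (l * d * l⁻¹)) := by group
    rw [h4, h2]; group
  rw [h3] at h1
  exact ((mem_centralizer_iff.1 (hLR hk)) d h1).symm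

/-- Lemma E: no element of `[Y, B]` is centralised by `L`. -/
theorem eq_one {d : G} (hd : d ∈ DD Y B) (hdL : ∀ l ∈ L, l * d = d * l) : d = 1 := by
  have hcen := h.central hn c
  set X : Subgroup G := DD Y B ⊓ centralizer (L : Set G) with hX
  have hXmem : ∀ {x : G}, x ∈ X ↔ x ∈ DD Y B ∧ ∀ l ∈ L, l * x = x * l := by
    intro x
    rw [hX, mem_inf, mem_centralizer_iff]
    exact Iff.rfl
  have hXZ : X ≤ Z := inf_le_left.trans h.DDZ
  have hXT : ∀ t ∈ T, cjS t X = X := by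
    intro t ht
    refine cjS_eq_of (K := T) ?_ ht
    intro k hk x hx
    rw [hXmem] at hx ⊢
    refine ⟨?_, h.TnX k hk x (h.ZY (h.DDZ hx.1)) hx.2⟩
    have := conj_mem_cjS hx.1 k
    rwa [h.DDT hk] at this
  have hXs : cjS s X ≤ Z := by
    rw [← h.cZ h.sA]; exact cjS_mono hXZ s
  have h1 : X ⊔ cjS s X = ⊥ := by
    refine h.core _ (sup_le ?_ ?_) ?_ ?_
    · exact (hXZ.trans h.ZY).trans h.YB
    · exact (hXs.trans h.ZY).trans h.YB
    · intro l hl r hr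
      have h2 : X ⊔ cjS s X ≤ centralizer ({l} : Set G) := by
        refine sup_le ?_ ?_
        · intro x hx
          rw [mem_centralizer_singleton_iff]
          exact ((hXmem.1 hx).2 l hl).symm
        · intro x hx
          rw [mem_centralizer_singleton_iff]
          exact (hcen l hl x (cjS_mono inf_le_left s hx)).symm
      have h3 := mem_centralizer_singleton_iff.1 (h2 hr)
      rw [← h3, mul_inv_cancel_right]
      exact hr
    · have hT : ∀ t ∈ T, cjS t (X ⊔ cjS s X) ≤ X ⊔ cjS s X := by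
        intro t ht
        rw [cjS_sup]
        refine sup_le ?_ ?_
        · exact (hXT t ht).le.trans le_sup_left
        · refine le_trans (le_of_eq ?_) le_sup_right
          rw [← cjS_mul]
          have e : t * s = s * (s⁻¹ * t * s) := by group
          rw [e, cjS_mul, hXT _ (h.sTs' ht)]
      have hs : cjS s (X ⊔ cjS s X) ≤ X ⊔ cjS s X := by
        rw [cjS_sup]
        refine sup_le le_sup_right ?_
        refine le_trans (le_of_eq ?_) le_sup_left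
        rw [← cjS_mul, hXT _ h.ss]
      intro a ha r hr
      by_cases haT : a ∈ T
      · exact hT a haT (conj_mem_cjS hr a)
      · have h2 := h.idx a ha haT
        have h3 := hT _ h2 (conj_mem_cjS hr _)
        have h4 := hs (conj_mem_cjS h3 s)
        have e : s * (s⁻¹ * a * r * (s⁻¹ * a)⁻¹) * s⁻¹ = a * r * a⁻¹ := by group
        rwa [e] at h4
  have h2 : d ∈ X ⊔ cjS s X := (le_sup_left : X ≤ _) (hXmem.2 ⟨hd, hdL⟩)
  rw [h1] at h2
  exact mem_bot.1 h2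

omit hn [Finite G] in
/-- `[Y, B] ≠ 1`. -/
theorem DD_ne : ∃ d ∈ DD Y B, d ≠ 1 := by
  by_contra hcon
  push Not at hcon
  apply c.ncom
  intro x hx y hy
  have h1 := hcon _ (mem_DD hx (h.crit_le' c hy))
  exact mul_inv_eq_iff_eq_mul.1 (mul_inv_eq_one.1 h1)

/-- The case `b ≥ 3`. -/
theorem eq_one_word : n = 1 := by
  by_contra hn1
  obtain ⟨l, hl, hlB, -⟩ := h.tor
  have hli := L.inv_mem hl
  have c' := h.crit_pow hn c hl hlB
  have hcen := h.central hn c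
  set y := s⁻¹ * l⁻¹ with hy
  obtain ⟨m, rfl⟩ : ∃ m, n = m + 2 := ⟨n - 2, by omega⟩
  -- `D = y^{m+1} D y^{-(m+1)}`
  have hDs : cjS s⁻¹ (DD Y B) = cjS s (DD Y B) := by
    have e : s⁻¹ = s * (s * s)⁻¹ := by group
    rw [e, cjS_mul, h.DDT (inv_mem h.ss)]
  have hyD : cjS y (cjS s (DD Y B)) = DD Y B := by
    have h1 : cjS l⁻¹ (cjS s (DD Y B)) = cjS s (DD Y B) := by
      refine cjS_eq_of (K := L) ?_ hli
      intro k hk x hx
      rw [hcen k hk x hx, mul_inv_cancel_right]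
      exact hx
    rw [hy, cjS_mul, h1, cjS_inv_cjS]
  have hD : cjS (y ^ (m + 1)) (DD Y B) = DD Y B := by
    have h1 := h.crit_D c'
    rw [cjS_mul, hDs] at h1
    have e : y ^ (m + 2) = y ^ (m + 1) * y := pow_succ _ _
    rw [e, cjS_mul, hyD] at h1
    exact h1
  have hD' : cjS (y ^ (m + 1))⁻¹ (DD Y B) = DD Y B := cjS_inv_eq hD
  -- `D ≤ Y^{y^{-(m+1)}}` commutes with `Y^{y^{-(m+3)}}`
  have hcomY : Com Y (y ^ 2) := by
    have h1 : y * s⁻¹ ∈ W A L 1 := by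
      have := W_cons (A := A) (L := L) (n := 0) (w := s⁻¹) (A.inv_mem h.sA) hli (A.inv_mem h.sA)
      exact this
    have h2 := c.hc 1 (by omega) _ h1
    refine h2.of_eq ?_
    rw [pow_two]
    conv_rhs => rw [hy]
    rw [← mul_assoc, cjS_mul _ l⁻¹, h.cYL hli]
  have hDle : ∀ d ∈ DD Y B, d ∈ cjS l Z := by
    intro d hd
    have h1 : d ∈ cjS (y ^ (m + 1))⁻¹ Y := by
      rw [← hD'] at hd
      exact cjS_mono (h.DDZ.trans h.ZY) _ hd
    -- conjugate by `y^{m+3}`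
    have h2 : y ^ (m + 3) * d * (y ^ (m + 3))⁻¹ ∈ cjS (y ^ (m + 2) * s⁻¹) Z := by
      refine h.crit_Z' c' ?_ ?_
      · have h3 : y ^ (m + 3) * d * (y ^ (m + 3))⁻¹ ∈ cjS (y ^ (m + 3)) Y :=
          conj_mem_cjS (h.ZY (h.DDZ hd)) _
        have e : y ^ (m + 3) = y ^ (m + 2) * s⁻¹ * l⁻¹ := by rw [pow_succ, hy]; group
        rw [e] at h3 ⊢
        rwa [cjS_mul _ l⁻¹, h.cYL hli] at h3
      · intro u hu
        have h3 : y ^ (m + 3) * d * (y ^ (m + 3))⁻¹ ∈ cjS (y ^ 2) Y := by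
          rw [mem_cjS] at h1 ⊢
          have e : y ^ (m + 3) = y ^ 2 * y ^ (m + 1) := by rw [← pow_add]; congr 1; ring
          have e2 : (y ^ 2)⁻¹ * (y ^ (m + 3) * d * (y ^ (m + 3))⁻¹) * y ^ 2 =
            (y ^ (m + 1))⁻¹⁻¹ * d * (y ^ (m + 1))⁻¹ := by rw [e]; group
          rw [e2]; exact h1
        exact (hcomY u hu _ h3).symm
    have h3 : cjS (y ^ (m + 2) * s⁻¹) Z = cjS (y ^ (m + 3)) (cjS l Z) := by
      rw [cjS_mul, h.cZ (A.inv_mem h.sA), ← cjS_mul]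
      have e : y ^ (m + 3) * l = y ^ (m + 2) * s⁻¹ := by rw [pow_succ, hy]; group
      rw [e, cjS_mul, h.cZ (A.inv_mem h.sA)]
    rw [h3, mem_cjS] at h2
    have e : (y ^ (m + 3))⁻¹ * (y ^ (m + 3) * d * (y ^ (m + 3))⁻¹) * y ^ (m + 3) = d := by group
    rwa [e] at h2
  obtain ⟨d, hd, hd1⟩ := h.DD_ne c
  apply hd1
  refine h.eq_one hn c hd ?_
  have hLd : L ≤ centralizer ({d} : Set G) := by
    refine h.L_le_of hl hlB ?_ ?_
    · intro b hb
      rw [mem_centralizer_singleton_iff]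
      exact h.BcZ b hb d (h.DDZ hd)
    · intro b hb
      rw [mem_centralizer_singleton_iff]
      have h1 := hDle d hd
      rw [mem_cjS] at h1 hb
      have h2 := h.BcZ _ hb _ h1
      have h6 : l⁻¹ * (b * d) * l = l⁻¹ * (d * b) * l := by
        calc l⁻¹ * (b * d) * l = (l⁻¹ * b * l) * (l⁻¹ * d * l) := by group
          _ = (l⁻¹ * d * l) * (l⁻¹ * b * l) := h2
          _ = _ := by group
      exact mul_left_cancel (mul_right_cancel h6)
  intro k hk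
  exact mem_centralizer_singleton_iff.1 (hLd hk)

end lemD

end DataQ

end Cfsg.Agent.SQ1.PushUpQ
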