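import Cfsg.Agent.SQ1.PushUpQ

/-!
# Pushing up `SL₂(q)`-blocks, `q ≥ 4`: distance two, and the theorem
-/

set_option autoImplicit false
set_option linter.style.haveILetI false
set_option linter.unusedSectionVars false

namespace Cfsg.Agent.SQ1.PushUpQ

open Subgroup Cfsg.Agent.SQ1.QMod
open Cfsg.Agent.MinSimple.PushUp (W W_mul_right W_mul_left W_cons W_inv)

variable {G : Type*} [Group G]

/-! ### Commutators of generated subgroups -/

theorem comm_closure_right {S : Set G} {D' : Subgroup G} {x : G}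
    (hc : ∀ d ∈ D', ∀ y ∈ closure S, d * y = y * d) (h : ∀ y ∈ S, x * y * x⁻¹ * y⁻¹ ∈ D') :
    ∀ y ∈ closure S, x * y * x⁻¹ * y⁻¹ ∈ D' := by
  intro y hy
  induction hy using closure_induction with
  | mem y hy => exact h y hy
  | one => simp
  | mul y z hy hz ihy ihz =>
    have e : x * (y * z) * x⁻¹ * (y * z)⁻¹ = (x * y * x⁻¹ * y⁻¹) * (y * (x * z * x⁻¹ * z⁻¹) * y⁻¹) := by group
    rw [e, ← hc _ ihz y hy, mul_inv_cancel_right]
    exact mul_mem ihy ihz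
  | inv y hy ih =>
    have e : x * y⁻¹ * x⁻¹ * y⁻¹⁻¹ = y⁻¹ * (x * y * x⁻¹ * y⁻¹)⁻¹ * y := by group
    rw [e, ← hc _ (inv_mem ih) _ (inv_mem hy), inv_mul_cancel_right]
    exact inv_mem ih

theorem comm_symm {D' : Subgroup G} {x y : G} (h : x * y * x⁻¹ * y⁻¹ ∈ D') : y * x * y⁻¹ * x⁻¹ ∈ D' := by
  have e : y * x * y⁻¹ * x⁻¹ = (x * y * x⁻¹ * y⁻¹)⁻¹ := by group
  rw [e]; exact inv_mem h

theorem comm_closure {S : Set G} {D' : Subgroup G} (hc : ∀ d ∈ D', ∀ y ∈ closure S, d * y = y * d)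
    (h : ∀ x ∈ S, ∀ y ∈ S, x * y * x⁻¹ * y⁻¹ ∈ D') :
    ∀ x ∈ closure S, ∀ y ∈ closure S, x * y * x⁻¹ * y⁻¹ ∈ D' := by
  intro x hx
  refine comm_closure_right hc fun y hy => ?_
  refine comm_symm ?_
  exact comm_closure_right hc (fun z hz => h y hy z hz) x hx

theorem sq_closure {S : Set G} {D' : Subgroup G} (hc : ∀ d ∈ D', ∀ y ∈ closure S, d * y = y * d)
    (h : ∀ x ∈ S, ∀ y ∈ S, x * y * x⁻¹ * y⁻¹ ∈ D') (hsq : ∀ x ∈ S, x * x ∈ D') :
    ∀ x ∈ closure S, x * x ∈ D' := by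
  intro x hx
  induction hx using closure_induction with
  | mem y hy => exact hsq y hy
  | one => simp
  | mul y z hy hz ihy ihz =>
    have h1 := comm_closure hc h z hz y hy
    have e : y * z * (y * z) = (y * (z * y * z⁻¹ * y⁻¹)) * y * (z * z) := by group
    rw [e, ← hc _ h1 y hy, mul_assoc (z * y * z⁻¹ * y⁻¹)]
    exact mul_mem (mul_mem h1 ihy) ihz
  | inv y hy ih =>
    rw [← mul_inv_rev]; exact inv_mem ih

/-! ### Subgroups of `L` -/

section sub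

variable {L B C : Subgroup G}

theorem cjS_subgroupOf (g : L) (X : Subgroup G) :
    cjS g (X.subgroupOf L) = (cjS (g : G) X).subgroupOf L := by
  ext x
  rw [mem_cjS, mem_subgroupOf, mem_subgroupOf, mem_cjS]
  rfl

theorem subgroupOf_inj {X X' : Subgroup G} (h : X ≤ L) (h' : X' ≤ L) :
    X.subgroupOf L = X'.subgroupOf L ↔ X = X' := by
  constructor
  · intro e
    ext x
    constructor
    · intro hx
      have : (⟨x, h hx⟩ : L) ∈ X.subgroupOf L := hx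
      rw [e] at this
      exact this
    · intro hx
      have : (⟨x, h' hx⟩ : L) ∈ X'.subgroupOf L := hx
      rw [← e] at this
      exact this
  · rintro rfl; rfl

theorem cjS_le_L (hB : B ≤ L) {l : G} (hl : l ∈ L) : cjS l B ≤ L := by
  rintro _ ⟨x, hx, rfl⟩
  exact mul_mem (mul_mem hl (hB hx)) (inv_mem hl)

theorem cjS_sub_eq_iff (hB : B ≤ L) (hC : C ≤ L) (g : L) :
    cjS g (B.subgroupOf L) = C.subgroupOf L ↔ cjS (g : G) B = C := by
  rw [cjS_subgroupOf, subgroupOf_inj (cjS_le_L hB g.2) hC]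

end sub

variable {A T L B Q Y Z : Subgroup G} {s : G}

namespace DataQ

variable (h : DataQ A T L B Q Y Z s)

include h

section two

variable [Finite G] {w₀ : G} (c₀ : Crit A L Y 1 w₀)

include c₀

/-- The generating set of the group `W`. -/
def SS (L Y : Subgroup G) (s : G) : Set G := {x | x ∈ Y ∨ ∃ l ∈ L, x ∈ cjS (l * s) Y}

omit h c₀ [Finite G] in
theorem mem_SS {x : G} : x ∈ SS L Y s ↔ x ∈ Y ∨ ∃ l ∈ L, x ∈ cjS (l * s) Y := Iff.rfl

/-- The group `W`. -/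
def WG (L Y : Subgroup G) (s : G) : Subgroup G := closure (SS L Y s)

omit h c₀ [Finite G] in
theorem Y_le : Y ≤ WG L Y s := fun _ hy => subset_closure (Or.inl hy)

omit h c₀ [Finite G] in
theorem Ys_le {l : G} (hl : l ∈ L) : cjS (l * s) Y ≤ WG L Y s := fun _ hy => subset_closure (Or.inr ⟨l, hl, hy⟩)

theorem Ys_le_Q : cjS s Y ≤ Q := by
  intro x hx
  have hxB : x ∈ B := by
    rw [← h.cB h.sA]; exact cjS_mono h.YB s hx
  apply h.QcY x hxB
  intro v hv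
  exact (c₀.hc 0 (by norm_num) s h.sA v hv x hx).symm

theorem Yls_le_Q {l : G} (hl : l ∈ L) : cjS (l * s) Y ≤ Q := by
  rw [cjS_mul, ← h.cQL hl]
  exact cjS_mono (h.Ys_le_Q c₀) l

theorem WG_le_Q : WG L Y s ≤ Q := by
  rw [WG, closure_le]
  rintro x (hx | ⟨l, hl, hx⟩)
  · exact h.YQ hx
  · exact h.Yls_le_Q c₀ hl hx

theorem WG_norm {l : G} (hl : l ∈ L) {x : G} (hx : x ∈ WG L Y s) : l * x * l⁻¹ ∈ WG L Y s := by
  have hle : WG L Y s ≤ (WG L Y s).comap (MulAut.conj l).toMonoidHom := by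
    nth_rewrite 1 [WG]
    rw [closure_le]
    rintro x (hx | ⟨k, hk, hx⟩)
    · exact Y_le (h.LnY l hl x hx)
    · change l * x * l⁻¹ ∈ WG L Y s
      have h1 := conj_mem_cjS hx l
      rw [← cjS_mul, ← mul_assoc] at h1
      exact Ys_le (mul_mem hl hk) h1
  exact hle hx

/-- `D^s` is central. -/
theorem cDs {d : G} (hd : d ∈ cjS s (DD Y B)) {l : G} (hl : l ∈ L) : d * l = l * d :=
  (h.central one_ne_zero c₀ l hl d hd).symm

theorem cjDs {l : G} (hl : l ∈ L) : cjS (l * s) (DD Y B) = cjS s (DD Y B) := by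
  rw [cjS_mul]
  refine cjS_eq_of (K := L) ?_ hl
  intro k hk d hd
  rw [← h.cDs c₀ hd hk, mul_inv_cancel_right]
  exact hd

theorem DsY : cjS s (DD Y B) ≤ Y := by
  refine (cjS_mono h.DDZ s).trans ?_
  rw [h.cZ h.sA]; exact h.ZY

/-- commutators of elements of `Y^{ls}` and `B^{ls}` -/
theorem comm_ls {l x b : G} (hl : l ∈ L) (hx : x ∈ cjS (l * s) Y) (hb : b ∈ cjS (l * s) B) :
    x * b * x⁻¹ * b⁻¹ ∈ cjS s (DD Y B) := by
  rw [← h.cjDs c₀ hl, mem_cjS]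
  rw [mem_cjS] at hx hb
  have e : (l * s)⁻¹ * (x * b * x⁻¹ * b⁻¹) * (l * s) = ((l * s)⁻¹ * x * (l * s)) * ((l * s)⁻¹ * b * (l * s)) *
      ((l * s)⁻¹ * x * (l * s))⁻¹ * ((l * s)⁻¹ * b * (l * s))⁻¹ := by group
  rw [e]
  exact mem_DD hx hb

theorem Bls {l : G} : cjS (l * s) B = cjS l B := by rw [cjS_mul, h.cB h.sA]

theorem Q_le_Bls {l : G} (hl : l ∈ L) : Q ≤ cjS (l * s) B := by
  rw [h.Bls c₀]
  nth_rewrite 1 [← h.cQL hl]
  exact cjS_mono h.QB l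

theorem SS_comm {x y : G} (hx : x ∈ SS L Y s) (hy : y ∈ SS L Y s) : x * y * x⁻¹ * y⁻¹ ∈ cjS s (DD Y B) := by
  have hyQ : y ∈ Q := h.WG_le_Q c₀ (subset_closure hy)
  rcases hx with hx | ⟨l, hl, hx⟩
  · have h1 := h.YcQ y hyQ x hx
    have e : x * y * x⁻¹ * y⁻¹ = 1 := by rw [← h1]; group
    rw [e]; exact one_mem _
  · exact h.comm_ls c₀ hl hx (h.Q_le_Bls c₀ hl hyQ)

theorem WG_le_L : WG L Y s ≤ L := (h.WG_le_Q c₀).trans (h.QB.trans h.BL)

theorem Dsc : ∀ d ∈ cjS s (DD Y B), ∀ y ∈ closure (SS L Y s), d * y = y * d :=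
  fun _ hd _ hy => h.cDs c₀ hd (h.WG_le_L c₀ hy)

theorem WG_comm {x y : G} (hx : x ∈ WG L Y s) (hy : y ∈ WG L Y s) : x * y * x⁻¹ * y⁻¹ ∈ cjS s (DD Y B) :=
  comm_closure (h.Dsc c₀) (fun _ hx _ hy => h.SS_comm c₀ hx hy) x hx y hy

theorem WG_sq {x : G} (hx : x ∈ WG L Y s) : x * x ∈ cjS s (DD Y B) := by
  refine sq_closure (h.Dsc c₀) (fun _ hx _ hy => h.SS_comm c₀ hx hy) ?_ x hx
  rintro x (hx | ⟨l, hl, hx⟩)
  · rw [h.Ysq x hx]; exact one_mem _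
  · rw [mem_cjS] at hx
    have h1 := h.Ysq _ hx
    have h2 : x * x = 1 := by
      have e : (l * s)⁻¹ * x * (l * s) * ((l * s)⁻¹ * x * (l * s)) = (l * s)⁻¹ * (x * x) * (l * s) := by group
      rw [e] at h1
      have e2 : x * x = (l * s) * ((l * s)⁻¹ * (x * x) * (l * s)) * (l * s)⁻¹ := by group
      rw [e2, h1]; group
    rw [h2]; exact one_mem _

theorem WG_Q {x q : G} (hx : x ∈ WG L Y s) (hq : q ∈ Q) : q * x * q⁻¹ * x⁻¹ ∈ cjS s (DD Y B) := by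
  refine comm_closure_right (h.Dsc c₀) ?_ x hx
  rintro y (hy | ⟨l, hl, hy⟩)
  · have h1 := h.YcQ q hq y hy
    have e : q * y * q⁻¹ * y⁻¹ = 1 := by rw [h1]; group
    rw [e]; exact one_mem _
  · exact comm_symm (h.comm_ls c₀ hl hy (h.Q_le_Bls c₀ hl hq))

/-- The data for the quadratic form. -/
theorem dat : QQuo.Dat L (WG L Y s) Y (cjS s (DD Y B)) where
  YW := Y_le
  nW := fun _ hl _ hw => h.WG_norm c₀ hl hw
  nY := h.LnY
  cY := fun y hy w hw => (h.YcQ w (h.WG_le_Q c₀ hw) y hy).symm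
  Ysq := h.Ysq
  DY := h.DsY c₀
  sq := fun _ hw => h.WG_sq c₀ hw
  cm := fun _ hw _ hw' => h.WG_comm c₀ hw hw'
  cD := fun d hd l hl => by rw [← h.cDs c₀ hd hl, mul_inv_cancel_right]

section crit2

variable {l : G} (hl : l ∈ L) (hlB : cjS l B ≠ B)

include hl hlB

/-- The critical word `s⁻¹ l⁻¹ s⁻¹`. -/
theorem crit0 : Crit A L Y 1 (s⁻¹ * l⁻¹ * s⁻¹) := by
  have := h.crit_pow one_ne_zero c₀ hl hlB
  rwa [pow_one] at this

omit hlB in
theorem crit0_le : cjS (s⁻¹ * l⁻¹ * s⁻¹) Y ≤ cjS s⁻¹ (WG L Y s) := by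
  rw [h.cYs, mul_assoc, cjS_mul]
  exact cjS_mono (Ys_le (inv_mem hl)) _

omit hl hlB in
theorem B_norm {b : G} (hb : b ∈ B) {x : G} (hx : x ∈ cjS s⁻¹ (WG L Y s)) :
    b * x * b⁻¹ ∈ cjS s⁻¹ (WG L Y s) := by
  rw [mem_cjS, inv_inv] at hx ⊢
  have h1 : s * b * s⁻¹ ∈ L := h.BL (h.AnB s h.sA b hb)
  have h2 := h.WG_norm c₀ h1 hx
  have e : s * (b * x * b⁻¹) * s⁻¹ = s * b * s⁻¹ * (s * x * s⁻¹) * (s * b * s⁻¹)⁻¹ := by group
  rw [e]; exact h2

omit hl hlB in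
theorem comm_s {x y : G} (hx : x ∈ cjS s⁻¹ (WG L Y s)) (hy : y ∈ cjS s⁻¹ (WG L Y s)) :
    x * y * x⁻¹ * y⁻¹ ∈ DD Y B := by
  rw [mem_cjS, inv_inv] at hx hy
  have h1 := h.WG_comm c₀ hx hy
  rw [mem_cjS] at h1
  have e : s⁻¹ * (s * x * s⁻¹ * (s * y * s⁻¹) * (s * x * s⁻¹)⁻¹ * (s * y * s⁻¹)⁻¹) * s =
      x * y * x⁻¹ * y⁻¹ := by group
  rwa [e] at h1

/-- quadratic action -/
theorem quad {b b' w : G} (hb : b ∈ B) (hb' : b' ∈ B) (hw : w ∈ WG L Y s) :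
    b' * (b * w * b⁻¹ * w⁻¹) * b'⁻¹ * (b * w * b⁻¹ * w⁻¹)⁻¹ ∈ Y := by
  have c := h.crit0 c₀ hl hlB
  obtain ⟨u, hu, q, hq, rfl⟩ := h.crit_mul c hb
  obtain ⟨u', hu', q', hq', rfl⟩ := h.crit_mul c hb'
  have hus := h.crit0_le c₀ hl hu
  have hus' := h.crit0_le c₀ hl hu'
  have huL : u ∈ L := h.BL (h.crit_le' c hu)
  have huL' : u' ∈ L := h.BL (h.crit_le' c hu')
  -- `[b, w] = d [u, w]`
  set d := q * w * q⁻¹ * w⁻¹ with hd
  have hdD : d ∈ cjS s (DD Y B) := h.WG_Q c₀ hw hq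
  set k := u * w * u⁻¹ * w⁻¹ with hk
  have h1 : u * q * w * (u * q)⁻¹ * w⁻¹ = d * k := by
    have e : u * q * w * (u * q)⁻¹ * w⁻¹ = u * d * (w * u⁻¹ * w⁻¹) := by rw [hd]; group
    rw [e, ← h.cDs c₀ hdD huL, hk]; group
  have hkW : k ∈ WG L Y s := mul_mem (h.WG_norm c₀ huL hw) (inv_mem hw)
  have hks : k ∈ cjS s⁻¹ (WG L Y s) := by
    have e : k = u * (w * u⁻¹ * w⁻¹) := by rw [hk]; group
    rw [e]
    exact mul_mem hus (h.B_norm c₀ (h.QB (h.WG_le_Q c₀ hw)) (inv_mem hus))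
  rw [h1]
  have hdk : d * k ∈ WG L Y s := mul_mem (Y_le (h.DsY c₀ hdD)) hkW
  set d' := q' * (d * k) * q'⁻¹ * (d * k)⁻¹ with hd'
  have hdD' : d' ∈ cjS s (DD Y B) := h.WG_Q c₀ hdk hq'
  have h2 : u' * q' * (d * k) * (u' * q')⁻¹ * (d * k)⁻¹ = d' * (u' * k * u'⁻¹ * k⁻¹) := by
    have e : u' * q' * (d * k) * (u' * q')⁻¹ * (d * k)⁻¹ = u' * d' * (d * k * u'⁻¹ * (d * k)⁻¹) := by
      rw [hd']; group
    rw [e, ← h.cDs c₀ hdD' huL']
    have e2 : d' * u' * (d * k * u'⁻¹ * (d * k)⁻¹) = d' * ((u' * d) * k * u'⁻¹ * k⁻¹ * d⁻¹) := by group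
    rw [e2, ← h.cDs c₀ hdD huL']
    have hkk : u' * k * u'⁻¹ * k⁻¹ ∈ L := by
      have hkL := h.WG_le_L c₀ hkW
      exact mul_mem (mul_mem (mul_mem huL' hkL) (inv_mem huL')) (inv_mem hkL)
    have e3 : d * u' * k * u'⁻¹ * k⁻¹ * d⁻¹ = (d * (u' * k * u'⁻¹ * k⁻¹)) * d⁻¹ := by group
    rw [e3, h.cDs c₀ hdD hkk]; group
  rw [h2]
  exact mul_mem (h.DsY c₀ hdD') (h.ZY (h.DDZ (h.comm_s c₀ hus' hks)))

/-- `B` centralises `(W ∩ Q^s)/Y`. -/
theorem fix_of_mem {x b : G} (hx : x ∈ WG L Y s) (hxQ : x ∈ cjS s Q) (hb : b ∈ B) :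
    b * x * b⁻¹ * x⁻¹ ∈ Y := by
  have c := h.crit0 c₀ hl hlB
  obtain ⟨u, hu, q, hq, rfl⟩ := h.crit_mul c hb
  have huL : u ∈ L := h.BL (h.crit_le' c hu)
  -- `x = y q₂`
  have hxB : x ∈ cjS (s⁻¹ * l⁻¹ * s⁻¹) B := by
    rw [cjS_mul, h.cB (A.inv_mem h.sA), cjS_mul]
    have h1 : cjS s Q = cjS s⁻¹ Q := by
      have e : s⁻¹ = s * (s * s)⁻¹ := by group
      rw [e, cjS_mul, h.cQT (inv_mem h.ss)]
    rw [h1, ← h.cQL (inv_mem hl)] at hxQ
    exact cjS_mono (cjS_mono h.QB _) _ hxQ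
  have hx' : (s⁻¹ * l⁻¹ * s⁻¹)⁻¹ * x * (s⁻¹ * l⁻¹ * s⁻¹) ∈ B := mem_cjS.1 hxB
  obtain ⟨v, hv, q₂, hq₂, e⟩ := h.crit_mul (Crit.inv c) hx'
  set g := s⁻¹ * l⁻¹ * s⁻¹ with hg
  have e1 : x = (g * v * g⁻¹) * (g * q₂ * g⁻¹) := by
    have : x = g * (g⁻¹ * x * g) * g⁻¹ := by group
    rw [this, e]; group
  have hv' : g * v * g⁻¹ ∈ Y := by
    have := conj_mem_cjS hv g
    rwa [cjS_cjS_inv] at this
  set y := g * v * g⁻¹ with hy
  set r := g * q₂ * g⁻¹ with hr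
  have hur : u * r = r * u := by
    rw [mem_cjS] at hu
    have h2 := h.YcQ q₂ hq₂ _ hu
    have e3 : u = g * (g⁻¹ * u * g) * g⁻¹ := by group
    rw [e3, hr]
    calc g * (g⁻¹ * u * g) * g⁻¹ * (g * q₂ * g⁻¹) = g * ((g⁻¹ * u * g) * q₂) * g⁻¹ := by group
      _ = g * (q₂ * (g⁻¹ * u * g)) * g⁻¹ := by rw [h2]
      _ = _ := by group
  have h3 : u * x * u⁻¹ * x⁻¹ ∈ Y := by
    have e4 : u * x * u⁻¹ * x⁻¹ = (u * y * u⁻¹) * ((u * r) * u⁻¹ * r⁻¹) * y⁻¹ := by rw [e1]; group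
    rw [e4, hur]
    have e5 : u * y * u⁻¹ * (r * u * u⁻¹ * r⁻¹) * y⁻¹ = (u * y * u⁻¹) * y⁻¹ := by group
    rw [e5]
    exact mul_mem (h.LnY u huL y hv') (inv_mem hv')
  set d := q * x * q⁻¹ * x⁻¹ with hd
  have hdD : d ∈ cjS s (DD Y B) := h.WG_Q c₀ hx hq
  have h4 : u * q * x * (u * q)⁻¹ * x⁻¹ = d * (u * x * u⁻¹ * x⁻¹) := by
    have e : u * q * x * (u * q)⁻¹ * x⁻¹ = u * d * (x * u⁻¹ * x⁻¹) := by rw [hd]; group
    rw [e, ← h.cDs c₀ hdD huL]; group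
  rw [h4]
  exact mul_mem (h.DsY c₀ hdD) h3

/-- The index bound. -/
theorem idx_le : Hyp.Idx (QQuo.TT (h.dat c₀)) (B.subgroupOf L) (Q.subgroupOf L) := by
  classical
  set D := h.dat c₀ with hD
  set F := Hyp.Fx (QQuo.TT D) (B.subgroupOf L) with hF
  have hrel : (Q.subgroupOf L).relIndex (B.subgroupOf L) = Q.relIndex B := relIndex_subgroupOf h.BL
  have hsQB : cjS s Q ≤ B := by rw [← h.cB h.sA]; exact cjS_mono h.QB s
  -- `|B : Q^s| = |B : Q|`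
  have hrel2 : (cjS s Q).relIndex B = Q.relIndex B := by
    have h1 := (Q.subgroupOf B).card_eq_card_quotient_mul_card_subgroup
    have h2 := ((cjS s Q).subgroupOf B).card_eq_card_quotient_mul_card_subgroup
    rw [Nat.card_congr (subgroupOfEquivOfLe h.QB).toEquiv] at h1
    rw [Nat.card_congr (subgroupOfEquivOfLe hsQB).toEquiv, card_cjS] at h2
    have h3 : Nat.card (B ⧸ (cjS s Q).subgroupOf B) * Nat.card Q = Nat.card (B ⧸ Q.subgroupOf B) * Nat.card Q := by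
      rw [← h2, ← h1]
    exact Nat.eq_of_mul_eq_mul_right (Nat.card_pos (α := Q)) h3
  change F.index ≤ (Q.subgroupOf L).relIndex (B.subgroupOf L)
  rw [hrel, ← hrel2]
  -- representatives in `W`
  have hrep : ∀ t : QQuo.TT D ⧸ F, ∃ w, ∃ hw : w ∈ WG L Y s, (QuotientAddGroup.mk (QQuo.mkT D w hw) : _ ⧸ F) = t := by
    intro t
    obtain ⟨t', rfl⟩ := QuotientAddGroup.mk_surjective t
    obtain ⟨w, hw, rfl⟩ := QQuo.mkT_surj D t'
    exact ⟨w, hw, rfl⟩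
  choose φ hφ hφ' using hrep
  have hWB : WG L Y s ≤ B := (h.WG_le_Q c₀).trans h.QB
  let ψ : (QQuo.TT D ⧸ F) → (B ⧸ (cjS s Q).subgroupOf B) := fun t => QuotientGroup.mk ⟨φ t, hWB (hφ t)⟩
  have hψ : Function.Injective ψ := by
    intro t t' htt
    have h1 : (⟨φ t, hWB (hφ t)⟩ : B)⁻¹ * ⟨φ t', hWB (hφ t')⟩ ∈ (cjS s Q).subgroupOf B := QuotientGroup.eq.1 htt
    have h2 : (φ t)⁻¹ * φ t' ∈ cjS s Q := h1
    rw [← hφ' t, ← hφ' t', QuotientAddGroup.eq]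
    have h3 : -QQuo.mkT D (φ t) (hφ t) + QQuo.mkT D (φ t') (hφ t') =
        QQuo.mkT D ((φ t)⁻¹ * φ t') (mul_mem (inv_mem (hφ t)) (hφ t')) := by
      rw [QQuo.mkT_neg, QQuo.mkT_add]
    rw [h3, hF, QQuo.mem_Fx]
    intro b hb
    exact h.fix_of_mem c₀ hl hlB (mul_mem (inv_mem (hφ t)) (hφ t')) h2 hb
  exact Nat.card_le_card_of_injective ψ hψ

/-- The hypotheses on the module `W/Y`. -/
theorem hyp : Hyp (M := QQuo.TT (h.dat c₀)) (D := QQuo.WW (h.dat c₀)) (QQuo.qq (h.dat c₀))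
    (QQuo.bb (h.dat c₀)) (B.subgroupOf L) (Q.subgroupOf L) := by
  refine QQuo.hyp (h.dat c₀) ?_ ?_ ?_ ?_
  · intro x hx; exact h.QB hx
  · intro b hb b' hb' w hw
    exact h.quad c₀ hl hlB hb hb' hw
  · intro g hg X hX1 hX2
    have hg' : cjS (g : G) B ≠ B := fun e => hg ((cjS_sub_eq_iff h.BL h.BL g).2 e)
    have h1 := h.L_le_of g.2 hg' (X := X.map L.subtype) ?_ ?_
    · rw [eq_top_iff]
      intro x _
      obtain ⟨y, hy, e⟩ := h1 x.2
      have : y = x := Subtype.ext e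
      rwa [← this]
    · intro b hb
      exact ⟨⟨b, h.BL hb⟩, hX1 hb, rfl⟩
    · intro b hb
      refine ⟨⟨b, cjS_le_L h.BL g.2 hb⟩, hX2 ?_, rfl⟩
      rw [cjS_subgroupOf]
      exact hb
  · intro g hg b hb hbQ e
    have hg' : cjS (g : G) B ≠ B := fun e => hg ((cjS_sub_eq_iff h.BL h.BL g).2 e)
    refine h.ti g g.2 hg' b hb hbQ ?_
    rw [cjS_subgroupOf, cjS_sub_eq_iff (cjS_le_L h.BL g.2) (cjS_le_L h.BL g.2)] at e
    exact e

/-- A non-fixed vector in `C_M(B)`. -/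
theorem exists_v : ∃ v : QQuo.TT (h.dat c₀), v ∈ Hyp.Fx (QQuo.TT (h.dat c₀)) (B.subgroupOf L) ∧
    ∃ k : L, k • v ≠ v := by
  have hsW : cjS s Y ≤ WG L Y s := by
    have := Ys_le (L := L) (Y := Y) (s := s) (one_mem L)
    rwa [one_mul] at this
  have hex : ∃ x, ∃ hx : x ∈ cjS s Y, ∃ k ∈ L, k * x * k⁻¹ * x⁻¹ ∉ Y := by
    by_contra hcon
    push Not at hcon
    apply h.not_norm
    intro k hk r hr
    have hle : Y ⊔ cjS s Y ≤ (Y ⊔ cjS s Y).comap (MulAut.conj k).toMonoidHom := by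
      refine sup_le ?_ ?_
      · intro y hy
        exact (le_sup_left : Y ≤ Y ⊔ cjS s Y) (h.LnY k hk y hy)
      · intro x hx
        change k * x * k⁻¹ ∈ Y ⊔ cjS s Y
        have h1 := hcon x hx k hk
        have e : k * x * k⁻¹ = (k * x * k⁻¹ * x⁻¹) * x := by group
        rw [e]
        exact mul_mem ((le_sup_left : Y ≤ Y ⊔ cjS s Y) h1) ((le_sup_right : cjS s Y ≤ Y ⊔ cjS s Y) hx)
    exact hle hr
  obtain ⟨x, hx, k, hk, hne⟩ := hex
  have hxW := hsW hx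
  refine ⟨QQuo.mkT _ x hxW, ?_, ⟨k, hk⟩, ?_⟩
  · rw [QQuo.mem_Fx]
    intro b hb
    have hb' : (b : G) ∈ B := hb
    have h1 := h.comm_ls c₀ (l := 1) (one_mem L) (x := x) (b := (b : G)) (by rwa [one_mul])
      (by rw [one_mul, h.cB h.sA]; exact hb')
    exact h.DsY c₀ (comm_symm h1)
  · intro e
    apply hne
    rw [QQuo.smul_mkT, QQuo.mkT_eq] at e
    have e' : k * x * k⁻¹ * x⁻¹ = x * ((k * x * k⁻¹)⁻¹ * x)⁻¹ * x⁻¹ := by group
    rw [e']
    have e2 : ((k * x * k⁻¹)⁻¹ * x) ∈ Y := e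
    rw [← (h.dat c₀).cY _ (inv_mem e2) x hxW, mul_inv_cancel_right]
    exact inv_mem e2

/-- squares of `B` lie in `Q` -/
theorem sq_mem_Q {b : G} (hb : b ∈ B) : b * b ∈ Q := by
  have c := h.crit0 c₀ hl hlB
  obtain ⟨u, hu, q, hq, rfl⟩ := h.crit_mul c hb
  have huL : u ∈ L := h.BL (h.crit_le' c hu)
  have huu : u * u = 1 := by
    rw [mem_cjS] at hu
    have h1 := h.Ysq _ hu
    set g := s⁻¹ * l⁻¹ * s⁻¹
    have e : u * u = g * ((g⁻¹ * u * g) * (g⁻¹ * u * g)) * g⁻¹ := by group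
    rw [e, h1]; group
  have hui : u⁻¹ = u := inv_eq_of_mul_eq_one_left huu
  have e : u * q * (u * q) = (u * q * u⁻¹) * q := by
    rw [hui]; simp only [mul_assoc]
  rw [e]
  exact mul_mem (h.LnQ u huL q hq) hq

/-- The second alternative is impossible. -/
theorem no_rad {c : G} (hc : c ∈ WG L Y s) (hcc : ∀ x ∈ WG L Y s, c * x = x * c) : c * c = 1 := by
  have hcr := h.crit0 c₀ hl hlB
  set y := s⁻¹ * l⁻¹ with hy
  have hyi : y⁻¹ = l * s := by rw [hy]; group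
  have hsi := A.inv_mem h.sA
  have hcQ := h.WG_le_Q c₀ hc
  -- general facts on `y⁻¹`
  have hQB1 : Q ≤ cjS y⁻¹ B := by rw [hyi]; exact h.Q_le_Bls c₀ hl
  -- `c ∈ Q^{y⁻¹}`
  have hc1 : c ∈ cjS y⁻¹ Q := by
    rw [mem_cjS]
    have h1 := hQB1 hcQ
    rw [mem_cjS] at h1
    apply h.QcY _ h1
    intro v hv
    have h2 : y⁻¹ * v * y⁻¹⁻¹ ∈ WG L Y s := by
      apply Ys_le hl
      rw [← hyi]; exact conj_mem_cjS hv _
    have h3 := hcc _ h2
    calc y⁻¹⁻¹ * c * y⁻¹ * v = y⁻¹⁻¹ * (c * (y⁻¹ * v * y⁻¹⁻¹)) * y⁻¹ := by group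
      _ = y⁻¹⁻¹ * ((y⁻¹ * v * y⁻¹⁻¹) * c) * y⁻¹ := by rw [h3]
      _ = v * (y⁻¹⁻¹ * c * y⁻¹) := by group
  -- `y² c y⁻² ∈ B`
  have hc2 : y * (y * c * y⁻¹) * y⁻¹ ∈ B := by
    have h1 : y * c * y⁻¹ ∈ Q := by
      rw [mem_cjS, inv_inv] at hc1; exact hc1
    have h2 := hQB1 h1
    rw [mem_cjS, inv_inv] at h2
    exact h2
  obtain ⟨u, hu, q, hq, e⟩ := h.crit_mul hcr hc2
  -- `v = y⁻² u y²`
  have hv : y⁻¹ * (y⁻¹ * u * y) * y ∈ Y := by
    have h1 : cjS (y * s⁻¹) Y = cjS (y * y) Y := by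
      conv_rhs => rw [cjS_mul]
      rw [cjS_mul]
      congr 1
      rw [hy, cjS_mul, h.cYL (inv_mem hl)]
    rw [h1, mem_cjS] at hu
    have e2 : (y * y)⁻¹ * u * (y * y) = y⁻¹ * (y⁻¹ * u * y) * y := by group
    rwa [e2] at hu
  set v := y⁻¹ * (y⁻¹ * u * y) * y with hvdef
  have hq' : v⁻¹ * c = y⁻¹ * (y⁻¹ * q * y) * y := by
    have e3 : c = y⁻¹ * (y⁻¹ * (y * (y * c * y⁻¹) * y⁻¹) * y) * y := by group
    rw [e3, e, hvdef]; group
  have hvc : v * c = c * v := by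
    have := hcc v (Y_le hv)
    exact this.symm
  have hvv := h.Ysq v hv
  have hvi : v⁻¹ = v := inv_eq_of_mul_eq_one_left hvv
  -- `c² = q'²`
  set q' := v⁻¹ * c with hq'def
  have hqq : q' * q' = c * c := by
    rw [hq'def, hvi]
    calc v * c * (v * c) = v * (c * v) * c := by group
      _ = v * (v * c) * c := by rw [hvc]
      _ = (v * v) * (c * c) := by group
      _ = c * c := by rw [hvv, one_mul]
  -- `y³ q' y⁻³ ∈ B`
  have hq3 : y * q * y⁻¹ ∈ B := by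
    have h1 := hQB1 hq
    rw [mem_cjS, inv_inv] at h1
    exact h1
  have hsq3 := h.sq_mem_Q c₀ hl hlB hq3
  -- `y³ c² y⁻³ ∈ Q`
  have hc3 : y * (y * (y * (c * c) * y⁻¹) * y⁻¹) * y⁻¹ ∈ Q := by
    have e4 : y * (y * (y * (c * c) * y⁻¹) * y⁻¹) * y⁻¹ = (y * q * y⁻¹) * (y * q * y⁻¹) := by
      rw [← hqq, hq']; group
    rw [e4]; exact hsq3
  -- `c² ∈ D^{y⁻¹}`
  have hcD : c * c ∈ cjS y⁻¹ (DD Y B) := by
    rw [hyi, h.cjDs c₀ hl]; exact h.WG_sq c₀ hc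
  have hcD' : y * (c * c) * y⁻¹ ∈ DD Y B := by
    rw [mem_cjS, inv_inv] at hcD; exact hcD
  set d := y * (c * c) * y⁻¹ with hd
  -- `y² d y⁻² ∈ Y^{w}`, commuting with `Y`
  have hdZ : y * (y * d * y⁻¹) * y⁻¹ ∈ cjS (y * s⁻¹) Z := by
    refine h.crit_Z' hcr ?_ ?_
    · have h1 : cjS (y * s⁻¹) Y = cjS (y * y) Y := by
        conv_rhs => rw [cjS_mul]
        rw [cjS_mul]
        congr 1
        rw [hy, cjS_mul, h.cYL (inv_mem hl)]
      rw [h1, mem_cjS]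
      have e5 : (y * y)⁻¹ * (y * (y * d * y⁻¹) * y⁻¹) * (y * y) = d := by group
      rw [e5]
      exact h.ZY (h.DDZ hcD')
    · intro x hx
      exact h.YcQ _ hc3 x hx
  have hdZ' : d ∈ cjS y⁻¹ Z := by
    rw [cjS_mul, h.cZ hsi, mem_cjS] at hdZ
    rw [mem_cjS, inv_inv]
    have e6 : y⁻¹ * (y * (y * d * y⁻¹) * y⁻¹) * y = y * d * y⁻¹ := by group
    rwa [e6] at hdZ
  -- so `d` is centralised by `L`
  have hdl : d ∈ cjS l Z := by
    rw [hyi, cjS_mul, h.cZ h.sA] at hdZ'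
    exact hdZ'
  have hLd : L ≤ centralizer ({d} : Set G) := by
    refine h.L_le_of hl hlB ?_ ?_
    · intro b hb
      rw [mem_centralizer_singleton_iff]
      exact h.BcZ b hb d (h.DDZ hcD')
    · intro b hb
      rw [mem_centralizer_singleton_iff]
      rw [mem_cjS] at hb hdl
      have h2 := h.BcZ _ hb _ hdl
      have h6 : l⁻¹ * (b * d) * l = l⁻¹ * (d * b) * l := by
        calc l⁻¹ * (b * d) * l = (l⁻¹ * b * l) * (l⁻¹ * d * l) := by group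
          _ = (l⁻¹ * d * l) * (l⁻¹ * b * l) := h2
          _ = _ := by group
      exact mul_left_cancel (mul_right_cancel h6)
  have hd1 := h.eq_one one_ne_zero c₀ hcD' (fun k hk => mem_centralizer_singleton_iff.1 (hLd hk))
  have e7 : c * c = y⁻¹ * d * y := by rw [hd]; group
  rw [e7, hd1]; group

end crit2

/-- Distance two is impossible. -/
theorem false_two : False := by
  obtain ⟨l, hl, hlB, k, hk, hkB, hkl, hk3⟩ := h.tor
  have hH := h.hyp c₀ hl hlB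
  have hidx := h.idx_le c₀ hl hlB
  haveI : Finite (QQuo.TT (h.dat c₀)) :=
    (inferInstance : Finite (WG L Y s ⧸ Y.subgroupOf (WG L Y s)))
  obtain ⟨v, hv, hvL⟩ := h.exists_v c₀ hl hlB
  have hne : cjS (⟨l, hl⟩ : L) (B.subgroupOf L) ≠ B.subgroupOf L := fun e =>
    hlB ((cjS_sub_eq_iff h.BL h.BL ⟨l, hl⟩).1 e)
  have hlL := cjS_le_L h.BL hl
  have hgoal1 : cjS (⟨k, hk⟩ : L) (cjS (⟨l, hl⟩ : L) (B.subgroupOf L)) =
      cjS (⟨l, hl⟩ : L) (B.subgroupOf L) := by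
    rw [cjS_subgroupOf, cjS_sub_eq_iff hlL hlL]
    exact hkl
  have hgoal2 : ∀ m : L, cjS m (B.subgroupOf L) ≠ B.subgroupOf L →
      cjS m (B.subgroupOf L) ≠ cjS (⟨l, hl⟩ : L) (B.subgroupOf L) →
      cjS (⟨k, hk⟩ : L) (cjS m (B.subgroupOf L)) ≠ cjS m (B.subgroupOf L) := by
    intro m hm1 hm2 e
    have hmL := cjS_le_L h.BL m.2
    refine hk3 m m.2 (fun e => hm1 ((cjS_sub_eq_iff h.BL h.BL m).2 e)) ?_ ?_
    · intro e'
      apply hm2
      rw [cjS_subgroupOf, cjS_subgroupOf, subgroupOf_inj hmL hlL]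
      exact e'
    · rw [cjS_subgroupOf, cjS_sub_eq_iff hmL hmL] at e
      exact e
  rcases hH.main hidx hne (k := ⟨k, hk⟩) ((cjS_sub_eq_iff h.BL h.BL ⟨k, hk⟩).2 hkB) hgoal1 hgoal2 hv hvL with hcase | hcase
  · obtain ⟨t, ht, htq⟩ := hcase
    obtain ⟨c, hc, rfl⟩ := QQuo.mkT_surj _ t
    apply htq
    rw [QQuo.qq_mk, QQuo.mkW_eq_zero]
    refine h.no_rad c₀ hl hlB hc ?_
    intro x hx
    have h1 := ht (QQuo.mkT _ x hx)
    rw [QQuo.bb_mk, QQuo.mkW_eq_zero] at h1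
    exact mul_inv_eq_iff_eq_mul.1 (mul_inv_eq_one.1 h1)
  · -- `Y^s` and `Y^{l⁻¹ s}` commute
    have hcr := h.crit0 c₀ hl hlB
    apply hcr.ncom
    have hsW : cjS s Y ≤ WG L Y s := by
      have := Ys_le (L := L) (Y := Y) (s := s) (one_mem L)
      rwa [one_mul] at this
    have key : ∀ x ∈ cjS s Y, ∀ x' ∈ cjS s Y, x * (l⁻¹ * x' * l) = (l⁻¹ * x' * l) * x := by
      intro x hx x' hx'
      have h1 := hcase (QQuo.mkT _ x (hsW hx)) (QQuo.mkT _ x' (hsW hx')) (⟨l, hl⟩ : L)⁻¹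
      have h0 : x * x' = x' * x := by
        rw [mem_cjS] at hx hx'
        have h2 := h.Ycomm hx hx'
        have h3 : s⁻¹ * (x * x') * s = s⁻¹ * (x' * x) * s := by
          calc s⁻¹ * (x * x') * s = (s⁻¹ * x * s) * (s⁻¹ * x' * s) := by group
            _ = (s⁻¹ * x' * s) * (s⁻¹ * x * s) := h2
            _ = _ := by group
        exact mul_left_cancel (mul_right_cancel h3)
      rw [QQuo.smul_mkT, QQuo.bb_mk, QQuo.bb_mk, QQuo.mkW_eq] at h1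
      have h4 : x * x' * x⁻¹ * x'⁻¹ = 1 := by rw [h0]; group
      rw [h4] at h1
      have h5 := mul_inv_eq_iff_eq_mul.1 (mul_inv_eq_one.1 h1)
      simpa using h5
    intro x hx x' hx'
    rw [h.cYs, mul_assoc, cjS_mul, mem_cjS, inv_inv, cjS_mul, mem_cjS, inv_inv] at hx'
    have h1 := key (s * x * s⁻¹) (conj_mem_cjS hx s) _ hx'
    have h2 : s * (x * x') * s⁻¹ = s * (x' * x) * s⁻¹ := by
      calc s * (x * x') * s⁻¹ = (s * x * s⁻¹) * (l⁻¹ * (l * (s * x' * s⁻¹) * l⁻¹) * l) := by group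
        _ = (l⁻¹ * (l * (s * x' * s⁻¹) * l⁻¹) * l) * (s * x * s⁻¹) := h1
        _ = _ := by group
    exact mul_left_cancel (mul_right_cancel h2)

end two

/-- **Pushing up theorem for `SL₂(q)`-blocks.** -/
theorem main [Finite G] : ¬ Com Y s := by
  intro hs
  -- there is a critical word
  by_cases hall : ∀ n, ∀ w ∈ W A L n, Com Y w
  · apply h.Yne
    -- the subgroup generated by all conjugates
    set R : Subgroup G := closure {x | ∃ n, ∃ w ∈ W A L n, x ∈ cjS w Y} with hR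
    have hRB : R ≤ B := by
      rw [hR, closure_le]
      rintro x ⟨n, w, hw, hx⟩
      exact h.memB' (n := n) (fun m _ w hw => hall m w hw) le_rfl hw hx
    have hR1 : R = ⊥ := by
      refine h.core R hRB ?_ ?_
      · intro l hl r hr
        have hle : R ≤ R.comap (MulAut.conj l).toMonoidHom := by
          nth_rewrite 1 [hR]
          rw [closure_le]
          rintro x ⟨n, w, hw, hx⟩
          refine subset_closure ⟨n + 1, 1 * l * w, W_cons hw hl (one_mem A), ?_⟩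
          rw [one_mul, cjS_mul]
          exact conj_mem_cjS hx l
        exact hle hr
      · intro a ha r hr
        have hle : R ≤ R.comap (MulAut.conj a).toMonoidHom := by
          nth_rewrite 1 [hR]
          rw [closure_le]
          rintro x ⟨n, w, hw, hx⟩
          refine subset_closure ⟨n, a * w, W_mul_left hw ha, ?_⟩
          rw [cjS_mul]
          exact conj_mem_cjS hx a
        exact hle hr
    rw [eq_bot_iff, ← hR1]
    intro y hy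
    exact subset_closure ⟨0, 1, one_mem A, by rwa [cjS_one]⟩
  · push Not at hall
    classical
    let n := Nat.find hall
    obtain ⟨w, hw, hnc⟩ := Nat.find_spec hall
    have hmin : ∀ m < n, ∀ w ∈ W A L m, Com Y w := by
      intro m hm w hw
      have := Nat.find_min hall hm
      push Not at this
      exact this w hw
    have c : Crit A L Y n w := ⟨hmin, hw, hnc⟩
    have hn : n ≠ 0 := by
      intro e
      apply c.ncom
      have hw' : w ∈ A := by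
        have := c.mem
        rw [e] at this
        exact this
      by_cases hwT : w ∈ T
      · intro x hx y hy
        rw [h.cYT hwT] at hy
        exact h.Ycomm hx hy
      · refine hs.of_eq ?_
        have h2 := h.idx w hw' hwT
        have e2 : w = s * (s⁻¹ * w) := by group
        rw [e2, cjS_mul, h.cYT h2]
    have h1 := h.eq_one_word hn c
    rw [h1] at c
    exact h.false_two c

end DataQ

end Cfsg.Agent.SQ1.PushUpQ
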