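import Mathlib.GroupTheory.Index
import Mathlib.GroupTheory.GroupAction.Basic
import Mathlib.Tactic

/-!
# An invariant quadratic form on an FF-module of an `SL₂(q)`-like group

`L` acts on the elementary abelian 2-group `M` with `|M : C_M(B)| ≤ |B : Q|`, two different conjugates
of `B` generate `L`, and some element normalises exactly two conjugates of `B`.  An `L`-invariant
quadratic form on `M` (with values in a trivial module) has either a non-singular vector in its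
radical or its polar form is trivial on `[M, L]`.
-/

set_option autoImplicit false

namespace Cfsg.Agent.SQ1.QMod

open Subgroup

/-- The conjugate. -/
abbrev cjS {L : Type*} [Group L] (g : L) (B : Subgroup L) : Subgroup L := B.map (MulAut.conj g).toMonoidHom

theorem mem_cjS {L : Type*} [Group L] {B : Subgroup L} {g x : L} : x ∈ cjS g B ↔ g⁻¹ * x * g ∈ B := by
  constructor
  · rintro ⟨y, hy, rfl⟩
    have : g⁻¹ * (MulAut.conj g).toMonoidHom y * g = y := by
      change g⁻¹ * (g * y * g⁻¹) * g = y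
      group
    rw [this]; exact hy
  · intro h
    refine ⟨_, h, ?_⟩
    change g * (g⁻¹ * x * g) * g⁻¹ = x
    group

theorem cjS_mul {L : Type*} [Group L] (g h : L) (B : Subgroup L) : cjS (g * h) B = cjS g (cjS h B) := by
  ext x
  rw [mem_cjS, mem_cjS, mem_cjS, mul_inv_rev]
  constructor <;> intro h1 <;> simpa [mul_assoc] using h1

theorem cjS_one {L : Type*} [Group L] (B : Subgroup L) : cjS 1 B = B := by
  ext x; rw [mem_cjS]; simp

theorem cjS_inv_eq {L : Type*} [Group L] {g : L} {A B : Subgroup L} (h : cjS g A = B) : cjS g⁻¹ B = A := by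
  rw [← h, ← cjS_mul, inv_mul_cancel, cjS_one]

theorem cjS_ne {L : Type*} [Group L] {g h : L} {B : Subgroup L} (hne : cjS g B ≠ cjS h B) :
    cjS (g⁻¹ * h) B ≠ B := by
  intro e
  apply hne
  rw [cjS_mul] at e
  have := cjS_inv_eq e
  rw [inv_inv] at this
  exact this

variable {M D L : Type*} [AddCommGroup M] [AddCommGroup D] [Group L] [DistribMulAction L M]

/-- The hypotheses. -/
structure Hyp (q : M → D) (f : M → M → D) (B Q : Subgroup L) : Prop where
  add : ∀ x y, q (x + y) = q x + q y + f x y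
  ladd : ∀ x y z, f (x + y) z = f x z + f y z
  two : ∀ x : M, x + x = 0
  two' : ∀ d : D, d + d = 0
  finv : ∀ (l : L) x y, f (l • x) (l • y) = f x y
  qinv : ∀ (l : L) x, q (l • x) = q x
  QB : Q ≤ B
  quad : ∀ b ∈ B, ∀ b' ∈ B, ∀ m : M, b' • (b • m - m) = b • m - m
  gen : ∀ g : L, cjS g B ≠ B → ∀ X : Subgroup L, B ≤ X → cjS g B ≤ X → X = ⊤
  ti : ∀ g : L, cjS g B ≠ B → ∀ b ∈ B, b ∉ Q → cjS b (cjS g B) ≠ cjS g B

namespace Hyp

variable {q : M → D} {f : M → M → D} {B Q : Subgroup L} (h : Hyp q f B Q)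

include h

theorem symm (x y : M) : f x y = f y x := by
  have h1 := h.add x y
  have h2 := h.add y x
  rw [add_comm y x, h1, add_comm (q y) (q x)] at h2
  exact add_left_cancel h2

theorem radd (x y z : M) : f x (y + z) = f x y + f x z := by
  rw [h.symm x, h.ladd, h.symm y, h.symm z]

theorem f_zero (x : M) : f x 0 = 0 := by
  have := h.radd x 0 0
  rw [add_zero] at this
  exact left_eq_add.1 this

theorem zero_f (x : M) : f 0 x = 0 := by rw [h.symm, h.f_zero]

theorem f_neg (x y : M) : f x (-y) = f x y := by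
  have h1 : -y = y := neg_eq_of_add_eq_zero_left (h.two y)
  rw [h1]

theorem f_sub (x y z : M) : f x (y - z) = f x y + f x z := by
  rw [sub_eq_add_neg, h.radd, h.f_neg]

theorem neg_M (y : M) : -y = y := neg_eq_of_add_eq_zero_left (h.two y)

theorem sub_M (x y : M) : x - y = x + y := by rw [sub_eq_add_neg, h.neg_M]

theorem q_zero : q 0 = 0 := by
  have := h.add 0 0
  rw [add_zero, h.f_zero, add_zero] at this
  exact left_eq_add.1 this

omit h in
/-- The fixed points. -/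
def Fx (M : Type*) [AddCommGroup M] [DistribMulAction L M] (X : Subgroup L) : AddSubgroup M where
  carrier := {m | ∀ x ∈ X, x • m = m}
  zero_mem' := fun x _ => smul_zero x
  add_mem' := fun {a b} ha hb x hx => by rw [smul_add, ha x hx, hb x hx]
  neg_mem' := fun {a} ha x hx => by rw [smul_neg, ha x hx]

omit h in
theorem mem_Fx {X : Subgroup L} {m : M} : m ∈ Fx M X ↔ ∀ x ∈ X, x • m = m := Iff.rfl

omit h in
theorem Fx_anti {X Y : Subgroup L} (hXY : X ≤ Y) : Fx M Y ≤ Fx M X := fun _ hm x hx => hm x (hXY hx)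

omit h in
theorem smul_mem_Fx {X : Subgroup L} {m : M} (hm : m ∈ Fx M X) (g : L) : g • m ∈ Fx M (cjS g X) := by
  intro x hx
  rw [mem_cjS] at hx
  have h1 := hm _ hx
  rw [← smul_assoc, smul_eq_mul]
  have e : x * g = g * (g⁻¹ * x * g) := by group
  rw [e, mul_smul, h1]

omit h in
theorem mem_Fx_cjS {X : Subgroup L} {m : M} {g : L} : m ∈ Fx M (cjS g X) ↔ g⁻¹ • m ∈ Fx M X := by
  constructor
  · intro h1
    have := smul_mem_Fx h1 g⁻¹
    rwa [← cjS_mul, inv_mul_cancel, cjS_one] at this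
  · intro h1
    have := smul_mem_Fx h1 g
    rwa [smul_inv_smul] at this

omit h in
theorem smul_mem_top {m : M} (hm : m ∈ Fx M (⊤ : Subgroup L)) (g : L) : g • m = m := hm g (mem_top g)

/-- Two different conjugates have the fixed points of `L` in common. -/
theorem inf_fx {g : L} (hg : cjS g B ≠ B) {m : M} (h1 : m ∈ Fx M B) (h2 : m ∈ Fx M (cjS g B)) :
    m ∈ Fx M (⊤ : Subgroup L) := by
  have h3 := h.gen g hg (MulAction.stabilizer L m) (fun x hx => h1 x hx) (fun x hx => h2 x hx)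
  intro x _
  have : x ∈ MulAction.stabilizer L m := by rw [h3]; exact mem_top x
  exact this

theorem inf_fx' {g k : L} (hg : cjS g B ≠ cjS k B) {m : M} (h1 : m ∈ Fx M (cjS g B))
    (h2 : m ∈ Fx M (cjS k B)) : m ∈ Fx M (⊤ : Subgroup L) := by
  have h3 := mem_Fx_cjS.1 h1
  have h4 : g⁻¹ • m ∈ Fx M (cjS (g⁻¹ * k) B) := by
    rw [cjS_mul]
    exact smul_mem_Fx h2 g⁻¹
  have h5 := h.inf_fx (cjS_ne hg) h3 h4
  intro x _
  have h6 := h5 (g⁻¹ * x * g) (mem_top _)
  rw [← smul_assoc, smul_eq_mul] at h6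
  have e : g⁻¹ * x * g * g⁻¹ = g⁻¹ * x := by group
  rw [e, mul_smul] at h6
  exact (smul_left_cancel_iff g⁻¹).1 h6

/-- `b ↦ b • w - w` is additive on `B`. -/
theorem hom {b b' : L} (hb : b ∈ B) (hb' : b' ∈ B) (w : M) :
    (b * b') • w - w = (b • w - w) + (b' • w - w) := by
  have h1 := h.quad b' hb' b hb w
  rw [smul_sub, ← mul_smul] at h1
  have : (b * b') • w = (b' • w - w) + b • w := by rw [← h1]; abel
  rw [this]; abel

theorem diff_mem {b : L} (hb : b ∈ B) (w : M) : b • w - w ∈ Fx M B := fun x hx => h.quad b hb x hx w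

/-- The differences lie in `L`-fixed points only for `b ∈ Q`. -/
theorem mem_Q {g : L} (hg : cjS g B ≠ B) {w : M} (hw : w ∈ Fx M (cjS g B)) (hwC : w ∉ Fx M (⊤ : Subgroup L))
    {b : L} (hb : b ∈ B) (hbC : b • w - w ∈ Fx M (⊤ : Subgroup L)) : b ∈ Q := by
  by_contra hbQ
  apply hwC
  have h1 := h.ti g hg b hb hbQ
  have h2 : w ∈ Fx M (cjS (b * g) B) := by
    have h3 : b • w ∈ Fx M (cjS (b * g) B) := by
      rw [cjS_mul]
      exact smul_mem_Fx hw b
    have h4 : w = b • w - (b • w - w) := by abel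
    rw [h4]
    exact sub_mem h3 (Fx_anti le_top hbC)
  exact h.inf_fx' (g := b * g) (k := g) (by rw [cjS_mul]; exact h1) h2 hw

section Fin

variable [Finite M]

omit h [Finite M] in
theorem card_Fx_cjS (X : Subgroup L) (g : L) : Nat.card (Fx M (cjS g X)) = Nat.card (Fx M X) := by
  refine Nat.card_congr ⟨fun m => ⟨g⁻¹ • (m : M), mem_Fx_cjS.1 m.2⟩, fun m => ⟨g • (m : M), smul_mem_Fx m.2 g⟩,
    fun m => ?_, fun m => ?_⟩
  · apply Subtype.ext; exact smul_inv_smul g _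
  · apply Subtype.ext; exact inv_smul_smul g _

/-- The index hypothesis. -/
def Idx (M : Type*) [AddCommGroup M] [DistribMulAction L M] (B Q : Subgroup L) : Prop :=
  (Fx M B).index ≤ Q.relIndex B

variable (hidx : Idx M B Q)

include hidx

omit hidx in
/-- The map `B/Q → C_M(B)/C_M(L)`. -/
noncomputable def phi (w : M) (x : B ⧸ Q.subgroupOf B) :
    Fx M B ⧸ (Fx M (⊤ : Subgroup L)).addSubgroupOf (Fx M B) :=
  QuotientAddGroup.mk ⟨(x.out : L) • w - w, h.diff_mem x.out.2 w⟩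

omit hidx [Finite M] in
theorem phi_inj {g : L} (hg : cjS g B ≠ B) {w : M} (hw : w ∈ Fx M (cjS g B))
    (hwC : w ∉ Fx M (⊤ : Subgroup L)) : Function.Injective (h.phi w) := by
  intro x y hxy
  have h1 : (⟨(x.out : L) • w - w, h.diff_mem x.out.2 w⟩ : Fx M B) -
      ⟨(y.out : L) • w - w, h.diff_mem y.out.2 w⟩ ∈
      (Fx M (⊤ : Subgroup L)).addSubgroupOf (Fx M B) := by
    have := QuotientAddGroup.eq.1 hxy
    rw [← neg_mem_iff]
    have e : -((⟨(x.out : L) • w - w, h.diff_mem x.out.2 w⟩ : Fx M B) -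
      ⟨(y.out : L) • w - w, h.diff_mem y.out.2 w⟩) = -(⟨(x.out : L) • w - w, h.diff_mem x.out.2 w⟩ : Fx M B) +
      ⟨(y.out : L) • w - w, h.diff_mem y.out.2 w⟩ := by abel
    rw [e]; exact this
  have h2 : ((x.out : L) • w - w) - ((y.out : L) • w - w) ∈ Fx M (⊤ : Subgroup L) := h1
  have h3 := h.hom (b := (y.out : L)) (b' := ((y.out : L)⁻¹ * (x.out : L))) y.out.2
    (mul_mem (inv_mem y.out.2) x.out.2) w
  rw [mul_inv_cancel_left] at h3
  have h4 : ((y.out : L)⁻¹ * (x.out : L)) • w - w ∈ Fx M (⊤ : Subgroup L) := by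
    rw [h3] at h2
    have e : ((y.out : L) • w - w) + (((y.out : L)⁻¹ * (x.out : L)) • w - w) - ((y.out : L) • w - w) =
      ((y.out : L)⁻¹ * (x.out : L)) • w - w := by abel
    rwa [e] at h2
  have h5 := h.mem_Q hg hw hwC (mul_mem (inv_mem y.out.2) x.out.2) h4
  have h6 : (QuotientGroup.mk y.out : B ⧸ Q.subgroupOf B) = QuotientGroup.mk x.out := by
    rw [QuotientGroup.eq]
    exact h5
  rw [QuotientGroup.out_eq', QuotientGroup.out_eq'] at h6
  exact h6.symm

omit hidx in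
/-- `B/Q` embeds into `C_M(B)/C_M(L)`. -/
theorem le_relIndex {g : L} (hg : cjS g B ≠ B) {w : M} (hw : w ∈ Fx M (cjS g B))
    (hwC : w ∉ Fx M (⊤ : Subgroup L)) :
    Q.relIndex B ≤ (Fx M (⊤ : Subgroup L)).relIndex (Fx M B) :=
  Nat.card_le_card_of_injective _ (h.phi_inj hg hw hwC)

/-- The orders. -/
theorem orders {g : L} (hg : cjS g B ≠ B) {w : M} (hw : w ∈ Fx M (cjS g B))
    (hwC : w ∉ Fx M (⊤ : Subgroup L)) :
    (Fx M (⊤ : Subgroup L)).relIndex (Fx M B) = Q.relIndex B ∧ (Fx M B).index = Q.relIndex B ∧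
      Fx M B ⊔ Fx M (cjS g B) = ⊤ := by
  set P := Fx M B with hP
  set P' := Fx M (cjS g B) with hP'
  set C := Fx M (⊤ : Subgroup L) with hC
  have h1 := h.le_relIndex hg hw hwC
  have h2 : P.index ≤ Q.relIndex B := hidx
  have hcard : Nat.card P' = Nat.card P := card_Fx_cjS B g
  have hinf : P ⊓ P' = C := by
    apply le_antisymm
    · rintro m ⟨hm, hm'⟩
      exact h.inf_fx hg hm hm'
    · exact le_inf (Fx_anti le_top) (Fx_anti le_top)
  -- |P'| |P ⊔ P'| ... 
  have h3 : Nat.card C * C.relIndex P' = Nat.card P' := by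
    have := AddSubgroup.relIndex_mul_relIndex (⊥ : AddSubgroup M) C P' bot_le (Fx_anti le_top)
    simpa [AddSubgroup.relIndex_bot_left] using this
  have h3' : Nat.card C * C.relIndex P = Nat.card P := by
    have := AddSubgroup.relIndex_mul_relIndex (⊥ : AddSubgroup M) C P bot_le (Fx_anti le_top)
    simpa [AddSubgroup.relIndex_bot_left] using this
  have hCpos : 0 < Nat.card C := Nat.card_pos
  have h4 : C.relIndex P' = C.relIndex P := by
    have : Nat.card C * C.relIndex P' = Nat.card C * C.relIndex P := by rw [h3, h3', hcard]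
    exact Nat.eq_of_mul_eq_mul_left hCpos this
  have h5 : P.relIndex (P ⊔ P') = C.relIndex P := by
    rw [← h4, ← hinf, sup_comm, AddSubgroup.relIndex_sup_right, AddSubgroup.inf_relIndex_right]
  have h6 : P.relIndex (P ⊔ P') * (P ⊔ P').index = P.index := AddSubgroup.relIndex_mul_index le_sup_left
  have hpos : 0 < (P ⊔ P').index := Nat.pos_of_ne_zero AddSubgroup.index_ne_zero_of_finite
  have hpos' : 0 < C.relIndex P := by
    have h11 : 0 < Nat.card P := Nat.card_pos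
    rw [← h3'] at h11
    exact Nat.pos_of_mul_pos_left h11
  have h7 : C.relIndex P ≤ P.index := by
    rw [← h6, h5]
    exact Nat.le_mul_of_pos_right _ hpos
  have h8 : C.relIndex P = Q.relIndex B := le_antisymm (h7.trans h2) h1
  have h9 : P.index = Q.relIndex B := le_antisymm h2 (h1.trans h7)
  refine ⟨h8, h9, ?_⟩
  rw [h5, h9, h8] at h6
  rw [h8] at hpos'
  have h10 : (P ⊔ P').index = 1 := by
    have : Q.relIndex B * (P ⊔ P').index = Q.relIndex B * 1 := by rw [h6, mul_one]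
    exact Nat.eq_of_mul_eq_mul_left hpos' this
  exact AddSubgroup.index_eq_one.1 h10

/-- `C_M(B) = [w, B] + C_M(L)`. -/
theorem span {g : L} (hg : cjS g B ≠ B) {w : M} (hw : w ∈ Fx M (cjS g B))
    (hwC : w ∉ Fx M (⊤ : Subgroup L)) {p : M} (hp : p ∈ Fx M B) :
    ∃ b ∈ B, p - (b • w - w) ∈ Fx M (⊤ : Subgroup L) := by
  have h1 := (h.orders hidx hg hw hwC).1
  have hpos : 0 < Nat.card (Fx M B ⧸ (Fx M (⊤ : Subgroup L)).addSubgroupOf (Fx M B)) := Nat.card_pos
  have h2 : Nat.card (B ⧸ Q.subgroupOf B) =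
      Nat.card (Fx M B ⧸ (Fx M (⊤ : Subgroup L)).addSubgroupOf (Fx M B)) := h1.symm
  have : Finite (B ⧸ Q.subgroupOf B) := Nat.finite_of_card_ne_zero (by rw [h2]; exact hpos.ne')
  have hbij : Function.Bijective (h.phi (Q := Q) w) :=
    (Nat.bijective_iff_injective_and_card _).2 ⟨h.phi_inj hg hw hwC, h2⟩
  obtain ⟨x, hx⟩ := hbij.2 (QuotientAddGroup.mk ⟨p, hp⟩)
  refine ⟨x.out, x.out.2, ?_⟩
  have h3 := QuotientAddGroup.eq.1 hx
  have h4 : -((x.out : L) • w - w) + p ∈ Fx M (⊤ : Subgroup L) := h3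
  have e : p - ((x.out : L) • w - w) = -((x.out : L) • w - w) + p := by abel
  rw [e]; exact h4

/-- The conjugates of `C_M(B)` cover `M`. -/
theorem cover {g : L} (hg : cjS g B ≠ B) {w₀ : M} (hw₀ : w₀ ∈ Fx M (cjS g B))
    (hw₀C : w₀ ∉ Fx M (⊤ : Subgroup L)) (m : M) : ∃ l : L, m ∈ Fx M (cjS l B) := by
  have h1 : m ∈ Fx M B ⊔ Fx M (cjS g B) := by
    rw [(h.orders hidx hg hw₀ hw₀C).2.2]; exact AddSubgroup.mem_top m
  obtain ⟨p, hp, w, hw, rfl⟩ := AddSubgroup.mem_sup.1 h1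
  by_cases hwC : w ∈ Fx M (⊤ : Subgroup L)
  · refine ⟨1, ?_⟩
    rw [cjS_one]
    exact add_mem hp (Fx_anti le_top hwC)
  · obtain ⟨b, hb, hc⟩ := h.span hidx hg hw hwC hp
    refine ⟨b * g, ?_⟩
    rw [cjS_mul]
    have e : p + w = (p - (b • w - w)) + b • w := by abel
    rw [e]
    exact add_mem (Fx_anti le_top hc) (smul_mem_Fx hw b)

omit hidx [Finite M] in
theorem add_cancel_left {x y : M} : x + (x + y) = y := by
  rw [← add_assoc, h.two, zero_add]

/-- The commutator space `[M, L]`. -/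
def N1 (M : Type*) (L : Type*) [AddCommGroup M] [Group L] [DistribMulAction L M] : AddSubgroup M :=
  AddSubgroup.closure {x | ∃ (l : L) (m : M), x = l • m - m}

omit h hidx [Finite M] in
theorem mem_N1 (l : L) (m : M) : l • m - m ∈ N1 M L := AddSubgroup.subset_closure ⟨l, m, rfl⟩

omit h hidx [Finite M] in
theorem smul_N1 {m : M} (hm : m ∈ N1 M L) (l : L) : l • m ∈ N1 M L := by
  have e : l • m = (l • m - m) + m := by abel
  rw [e]
  exact add_mem (mem_N1 l m) hm

omit hidx [Finite M] in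
/-- `C_M(L)` is orthogonal to `[M, L]`. -/
theorem f_C_N1 {c m : M} (hc : c ∈ Fx M (⊤ : Subgroup L)) (hm : m ∈ N1 M L) : f c m = 0 := by
  induction hm using AddSubgroup.closure_induction with
  | mem x hx =>
    obtain ⟨l, m, rfl⟩ := hx
    rw [h.f_sub]
    have h1 := h.finv l c m
    rw [smul_mem_top hc] at h1
    rw [h1, h.two']
  | zero => exact h.f_zero c
  | add x y _ _ hx hy => rw [h.radd, hx, hy, add_zero]
  | neg x _ hx => rw [h.f_neg, hx]

omit hidx [Finite M] in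
/-- `C_M(B)` is orthogonal to `[M, B]`. -/
theorem f_B {u : M} (hu : u ∈ Fx M B) {b : L} (hb : b ∈ B) (m : M) : f u (b • m - m) = 0 := by
  rw [h.f_sub]
  have h1 := h.finv b u m
  rw [hu b hb] at h1
  rw [h1, h.two']

/-- `M = [M, L] + C_M(L)`. -/
theorem decomp {g : L} (hg : cjS g B ≠ B) {w₀ : M} (hw₀ : w₀ ∈ Fx M (cjS g B))
    (hw₀C : w₀ ∉ Fx M (⊤ : Subgroup L)) (m : M) :
    ∃ n ∈ N1 M L, ∃ c ∈ Fx M (⊤ : Subgroup L), m = n + c ∧ ∀ l : L, m ∈ Fx M (cjS l B) → n ∈ Fx M (cjS l B) := by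
  have hB : ∀ p ∈ Fx M B, ∃ n ∈ N1 M L, ∃ c ∈ Fx M (⊤ : Subgroup L), p = n + c := by
    intro p hp
    obtain ⟨b, hb, hc⟩ := h.span hidx hg hw₀ hw₀C hp
    exact ⟨_, mem_N1 b w₀, _, hc, by abel⟩
  obtain ⟨l, hl⟩ := h.cover hidx hg hw₀ hw₀C m
  obtain ⟨n, hn, c, hc, e⟩ := hB (l⁻¹ • m) (mem_Fx_cjS.1 hl)
  refine ⟨l • n, smul_N1 hn l, l • c, ?_, ?_, ?_⟩
  · rw [smul_mem_top hc]; exact hc
  · rw [← smul_add, ← e, smul_inv_smul]
  · intro k hk
    have e2 : l • n = m - l • c := by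
      have : m = l • (n + c) := by rw [← e, smul_inv_smul]
      rw [this, smul_add]; abel
    rw [e2, smul_mem_top hc]
    exact sub_mem hk (Fx_anti le_top hc)

section Rad

variable (hrad : ∀ c ∈ Fx M (⊤ : Subgroup L), (∀ m, f c m = 0) → q c = 0)

include hrad

theorem q_C {g : L} (hg : cjS g B ≠ B) {w₀ : M} (hw₀ : w₀ ∈ Fx M (cjS g B))
    (hw₀C : w₀ ∉ Fx M (⊤ : Subgroup L)) {c : M} (hc : c ∈ Fx M (⊤ : Subgroup L)) (hcN : c ∈ N1 M L) :
    (∀ m, f c m = 0) ∧ q c = 0 := by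
  have h1 : ∀ m, f c m = 0 := by
    intro m
    obtain ⟨n, hn, c', hc', rfl, -⟩ := h.decomp hidx hg hw₀ hw₀C m
    rw [h.radd, h.f_C_N1 hc hn, h.symm c c', h.f_C_N1 hc' hcN, add_zero]
  exact ⟨h1, hrad c hc h1⟩

omit hrad in
theorem f_PN {g : L} (hg : cjS g B ≠ B) {w₀ : M} (hw₀ : w₀ ∈ Fx M (cjS g B))
    (hw₀C : w₀ ∉ Fx M (⊤ : Subgroup L)) {u v : M} (hu : u ∈ Fx M B) (hv : v ∈ Fx M B) (hvN : v ∈ N1 M L) :
    f u v = 0 := by
  obtain ⟨b, hb, hc⟩ := h.span hidx hg hw₀ hw₀C hv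
  set c := v - (b • w₀ - w₀) with hcdef
  have e : v = (b • w₀ - w₀) + c := by rw [hcdef]; abel
  have hcN : c ∈ N1 M L := sub_mem hvN (mem_N1 b w₀)
  have h1 : ∀ m, f c m = 0 := by
    intro m
    obtain ⟨n, hn, c', hc', rfl, -⟩ := h.decomp hidx hg hw₀ hw₀C m
    rw [h.radd, h.f_C_N1 hc hn, h.symm c c', h.f_C_N1 hc' hcN, add_zero]
  rw [e, h.radd, h.f_B hu hb, h.symm u c, h1, add_zero]

/-- `q = 0` on `C_M(B) ∩ [M, L]` if `k` acts without fixed points on `C_M(B)/C_M(L)`. -/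
theorem q_PN {g : L} (hg : cjS g B ≠ B) {w₀ : M} (hw₀ : w₀ ∈ Fx M (cjS g B))
    (hw₀C : w₀ ∉ Fx M (⊤ : Subgroup L)) {k : L} (hk : cjS k B = B)
    (hfix : ∀ v ∈ Fx M B, k • v - v ∈ Fx M (⊤ : Subgroup L) → v ∈ Fx M (⊤ : Subgroup L)) {u : M}
    (hu : u ∈ Fx M B) (huN : u ∈ N1 M L) : q u = 0 := by
  classical
  have hkP : ∀ v ∈ Fx M B, k • v - v ∈ Fx M B := by
    intro v hv
    refine sub_mem ?_ hv
    have := smul_mem_Fx hv k
    rwa [hk] at this
  -- the map `v ↦ k • v - v` on `C_M(B)/C_M(L)` is surjective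
  let C' := (Fx M (⊤ : Subgroup L)).addSubgroupOf (Fx M B)
  let ψ : Fx M B →+ Fx M B :=
    { toFun := fun v => ⟨k • (v : M) - v, hkP v v.2⟩
      map_zero' := by ext; simp
      map_add' := by
        intro x y
        ext
        change k • ((x : M) + y) - (x + y) = (k • (x : M) - x) + (k • (y : M) - y)
        rw [smul_add]; abel }
  have hψC : C' ≤ C'.comap ψ := by
    intro v hv
    have hv' : (v : M) ∈ Fx M (⊤ : Subgroup L) := hv
    change k • (v : M) - v ∈ Fx M (⊤ : Subgroup L)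
    rw [smul_mem_top hv', sub_self]
    exact zero_mem _
  let ψ' : (Fx M B ⧸ C') →+ (Fx M B ⧸ C') := QuotientAddGroup.map C' C' ψ hψC
  have hinj : Function.Injective ψ' := by
    rw [injective_iff_map_eq_zero]
    intro x hx
    obtain ⟨v, rfl⟩ := QuotientAddGroup.mk_surjective x
    have h1 : (QuotientAddGroup.mk (ψ v) : Fx M B ⧸ C') = 0 := hx
    rw [QuotientAddGroup.eq_zero_iff] at h1 ⊢
    exact hfix v v.2 h1
  have hsurj : Function.Surjective ψ' := Finite.surjective_of_injective hinj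
  obtain ⟨x, hx⟩ := hsurj (QuotientAddGroup.mk ⟨u, hu⟩)
  obtain ⟨v, rfl⟩ := QuotientAddGroup.mk_surjective x
  have h1 : (QuotientAddGroup.mk (ψ v) : Fx M B ⧸ C') = QuotientAddGroup.mk ⟨u, hu⟩ := hx
  rw [QuotientAddGroup.eq] at h1
  have h2 : -(k • (v : M) - v) + u ∈ Fx M (⊤ : Subgroup L) := h1
  -- replace `v` by an element of `[M, L]`
  obtain ⟨n, hn, c, hc, e, hnl⟩ := h.decomp hidx hg hw₀ hw₀C (v : M)
  have hnP : n ∈ Fx M B := by
    have := hnl 1 (by rw [cjS_one]; exact v.2)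
    rwa [cjS_one] at this
  have e2 : k • (v : M) - v = k • n - n := by
    rw [e, smul_add, smul_mem_top hc]; abel
  rw [e2] at h2
  set d := -(k • n - n) + u with hd
  have hdN : d ∈ N1 M L := add_mem (neg_mem (mem_N1 k n)) huN
  obtain ⟨h3, h4⟩ := h.q_C hidx hrad hg hw₀ hw₀C h2 hdN
  have e3' : u = (k • n - n) + d := by rw [hd]; abel
  have e3 : u = (k • n + n) + d := by rw [← h.sub_M (k • n) n]; exact e3'
  have hkn : k • n ∈ Fx M B := by
    have := smul_mem_Fx hnP k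
    rwa [hk] at this
  rw [e3, h.add, h.symm _ d, h3, h4, add_zero, add_zero, h.add, h.qinv, h.two', zero_add]
  exact h.f_PN hidx hg hw₀ hw₀C hkn hnP hn

/-- `q = 0` on `[M, L] ∩ C_M(B)` if some `k` normalises exactly `B` and `B^g`. -/
theorem q_all {g : L} (hg : cjS g B ≠ B) {w₀ : M} (hw₀ : w₀ ∈ Fx M (cjS g B))
    (hw₀C : w₀ ∉ Fx M (⊤ : Subgroup L)) {k : L} (hk : cjS k B = B) (hk' : cjS k (cjS g B) = cjS g B)
    (hk3 : ∀ m : L, cjS m B ≠ B → cjS m B ≠ cjS g B → cjS k (cjS m B) ≠ cjS m B) {l : L} {u : M}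
    (hu : u ∈ Fx M (cjS l B)) (huN : u ∈ N1 M L) : q u = 0 := by
  -- it is enough to treat `B`
  have hB : (∀ u ∈ Fx M B, u ∈ N1 M L → q u = 0) → q u = 0 := by
    intro hall
    rw [← h.qinv l⁻¹ u]
    exact hall _ (mem_Fx_cjS.1 hu) (smul_N1 huN _)
  apply hB
  by_cases h1 : ∀ v ∈ Fx M B, k • v - v ∈ Fx M (⊤ : Subgroup L) → v ∈ Fx M (⊤ : Subgroup L)
  · intro u hu huN
    exact h.q_PN hidx hrad hg hw₀ hw₀C hk h1 hu huN
  · push Not at h1
    obtain ⟨v, hv, hvk, hvC⟩ := h1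
    -- `k` acts without fixed points on `C_M(B^g)/C_M(L)`
    have h2 : ∀ w ∈ Fx M (cjS g B), k • w - w ∈ Fx M (⊤ : Subgroup L) → w ∈ Fx M (⊤ : Subgroup L) := by
      intro w hw hwk
      by_contra hwC
      obtain ⟨m, hm⟩ := h.cover hidx hg hw₀ hw₀C (v + w)
      have h3 : v + w ∉ Fx M B := by
        intro h4
        have h5 : w ∈ Fx M B := by
          have e : w = (v + w) - v := by abel
          rw [e]; exact sub_mem h4 hv
        exact hwC (h.inf_fx hg h5 hw)
      have h3' : v + w ∉ Fx M (cjS g B) := by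
        intro h4
        have h5 : v ∈ Fx M (cjS g B) := by
          have e : v = (v + w) - w := by abel
          rw [e]; exact sub_mem h4 hw
        exact hvC (h.inf_fx hg hv h5)
      have h6 : cjS m B ≠ B := fun e => h3 (by rw [← e]; exact hm)
      have h7 : cjS m B ≠ cjS g B := fun e => h3' (by rw [← e]; exact hm)
      have h8 := hk3 m h6 h7
      have h9 : v + w ∈ Fx M (cjS (k * m) B) := by
        have e : v + w = k • (v + w) - ((k • v - v) + (k • w - w)) := by rw [smul_add]; abel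
        rw [e, cjS_mul]
        exact sub_mem (smul_mem_Fx hm k) (Fx_anti le_top (add_mem hvk hwk))
      have h10 := h.inf_fx' (g := k * m) (k := m) (by rw [cjS_mul]; exact h8) h9 hm
      exact h3 (Fx_anti le_top h10)
    -- transport to `B`
    set k' := g⁻¹ * k * g with hk'def
    have hk1 : cjS k' B = B := by
      rw [hk'def, mul_assoc, cjS_mul, cjS_mul, hk', ← cjS_mul, inv_mul_cancel, cjS_one]
    intro u hu huN
    refine h.q_PN hidx hrad hg hw₀ hw₀C hk1 ?_ hu huN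
    intro v hv hvk
    have h4 : g • v ∈ Fx M (cjS g B) := smul_mem_Fx hv g
    have h5 : k • (g • v) - g • v ∈ Fx M (⊤ : Subgroup L) := by
      have e : k • (g • v) - g • v = g • (k' • v - v) := by
        rw [smul_sub, ← mul_smul, ← mul_smul, hk'def]
        congr 2
        group
      rw [e, smul_mem_top hvk]
      exact hvk
    have h6 := h2 _ h4 h5
    intro x _
    have h7 := h6 (g * x * g⁻¹) (mem_top _)
    rw [← mul_smul, inv_mul_cancel_right, mul_smul] at h7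
    exact (smul_left_cancel_iff g).1 h7

/-- The polar form vanishes on `[M, L]`. -/
theorem polar {g : L} (hg : cjS g B ≠ B) {w₀ : M} (hw₀ : w₀ ∈ Fx M (cjS g B))
    (hw₀C : w₀ ∉ Fx M (⊤ : Subgroup L)) {k : L} (hk : cjS k B = B) (hk' : cjS k (cjS g B) = cjS g B)
    (hk3 : ∀ m : L, cjS m B ≠ B → cjS m B ≠ cjS g B → cjS k (cjS m B) ≠ cjS m B) (u m : M) (l : L) :
    f u (l • m) = f u m := by
  have hq : ∀ n ∈ N1 M L, q n = 0 := by
    intro n hn
    obtain ⟨l, hl⟩ := h.cover hidx hg hw₀ hw₀C n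
    exact h.q_all hidx hrad hg hw₀ hw₀C hk hk' hk3 hl hn
  have hf : ∀ n ∈ N1 M L, ∀ m, f n m = 0 := by
    intro n hn m
    obtain ⟨n', hn', c, hc, rfl, -⟩ := h.decomp hidx hg hw₀ hw₀C m
    rw [h.radd, h.symm n c, h.f_C_N1 hc hn, add_zero]
    have h1 := h.add n n'
    rw [hq n hn, hq n' hn', hq _ (add_mem hn hn'), zero_add, zero_add] at h1
    exact h1.symm
  have h1 := hf _ (mem_N1 l m) u
  rw [h.symm, h.f_sub] at h1
  have h2 := h.two' (f u m)
  have h3 : f u (l • m) = -f u m := eq_neg_of_add_eq_zero_left h1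
  have h4 : f u m = -f u m := eq_neg_of_add_eq_zero_left h2
  rw [h3, ← h4]

end Rad

/-- **Invariant quadratic forms on FF-modules.** -/
theorem main {g : L} (hg : cjS g B ≠ B) {k : L} (hk : cjS k B = B) (hk' : cjS k (cjS g B) = cjS g B)
    (hk3 : ∀ m : L, cjS m B ≠ B → cjS m B ≠ cjS g B → cjS k (cjS m B) ≠ cjS m B)
    {v₀ : M} (hv₀ : v₀ ∈ Fx M B) (hv₀L : ∃ l : L, l • v₀ ≠ v₀) :
    (∃ c : M, (∀ m, f c m = 0) ∧ q c ≠ 0) ∨ ∀ (u m : M) (l : L), f u (l • m) = f u m := by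
  by_cases hrad : ∀ c ∈ Fx M (⊤ : Subgroup L), (∀ m, f c m = 0) → q c = 0
  · right
    have hw₀C : g • v₀ ∉ Fx M (⊤ : Subgroup L) := by
      intro h1
      obtain ⟨l, hl⟩ := hv₀L
      apply hl
      have h2 := h1 (g * l * g⁻¹) (mem_top _)
      rw [← mul_smul, inv_mul_cancel_right, mul_smul] at h2
      exact (smul_left_cancel_iff g).1 h2
    exact fun u m l => h.polar hidx hrad hg (smul_mem_Fx hv₀ g) hw₀C hk hk' hk3 u m l
  · left
    push Not at hrad
    obtain ⟨c, -, h1, h2⟩ := hrad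
    exact ⟨c, h1, h2⟩

end Fin

end Hyp

end Cfsg.Agent.SQ1.QMod
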