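import Cfsg.Agent.SQ1.QMod

/-!
# The quadratic form on `W/Y`

`Y ≤ Z(W)`, squares and commutators of `W` lie in `D ≤ Y`, `L` normalises `W`, `Y` and centralises `D`.
-/

set_option autoImplicit false

namespace Cfsg.Agent.SQ1.QQuo

open Subgroup Cfsg.Agent.SQ1.QMod

variable {G : Type*} [Group G] {L W Y D : Subgroup G}

/-- The hypotheses. -/
structure Dat (L W Y D : Subgroup G) : Prop where
  YW : Y ≤ W
  nW : ∀ l ∈ L, ∀ w ∈ W, l * w * l⁻¹ ∈ W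
  nY : ∀ l ∈ L, ∀ w ∈ Y, l * w * l⁻¹ ∈ Y
  cY : ∀ y ∈ Y, ∀ w ∈ W, y * w = w * y
  Ysq : ∀ y ∈ Y, y * y = 1
  DY : D ≤ Y
  sq : ∀ w ∈ W, w * w ∈ D
  cm : ∀ w ∈ W, ∀ w' ∈ W, w * w' * w⁻¹ * w'⁻¹ ∈ D
  cD : ∀ d ∈ D, ∀ l ∈ L, l * d * l⁻¹ = d

theorem normal (h : Dat L W Y D) : (Y.subgroupOf W).Normal := by
  constructor
  rintro ⟨v, hv⟩ hv' ⟨x, hx⟩
  have hv'' : v ∈ Y := hv'
  change x * v * x⁻¹ ∈ Y
  rw [← h.cY v hv'' x hx, mul_inv_cancel_right]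
  exact hv''

/-- `M = W/Y`, written additively. -/
def TT (_ : Dat L W Y D) : Type _ := Additive (W ⧸ Y.subgroupOf W)

/-- The class of an element. -/
def mkT (h : Dat L W Y D) (x : G) (hx : x ∈ W) : TT h :=
  Additive.ofMul (QuotientGroup.mk (⟨x, hx⟩ : W))

theorem mkT_surj (h : Dat L W Y D) (t : TT h) : ∃ x, ∃ hx : x ∈ W, mkT h x hx = t := by
  obtain ⟨⟨x, hx⟩, hxt⟩ := QuotientGroup.mk_surjective (Additive.toMul t : W ⧸ Y.subgroupOf W)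
  exact ⟨x, hx, hxt⟩

theorem mkT_eq (h : Dat L W Y D) {x y : G} {hx : x ∈ W} {hy : y ∈ W} :
    mkT h x hx = mkT h y hy ↔ x⁻¹ * y ∈ Y := by
  rw [mkT, mkT]
  change (QuotientGroup.mk (⟨x, hx⟩ : W) : W ⧸ Y.subgroupOf W) = QuotientGroup.mk ⟨y, hy⟩ ↔ _
  rw [QuotientGroup.eq]
  rfl

instance (h : Dat L W Y D) : AddCommGroup (TT h) :=
  haveI := normal h
  { (inferInstance : AddGroup (Additive (W ⧸ Y.subgroupOf W))) with
    add_comm := by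
      intro s t
      obtain ⟨x, hx, rfl⟩ := mkT_surj h s
      obtain ⟨y, hy, rfl⟩ := mkT_surj h t
      change mkT h (x * y) (mul_mem hx hy) = mkT h (y * x) (mul_mem hy hx)
      rw [mkT_eq]
      have e : (x * y)⁻¹ * (y * x) = y⁻¹ * x⁻¹ * y⁻¹⁻¹ * x⁻¹⁻¹ := by group
      rw [e]
      exact h.DY (h.cm _ (inv_mem hy) _ (inv_mem hx)) }

theorem mkT_add (h : Dat L W Y D) {x y : G} (hx : x ∈ W) (hy : y ∈ W) :
    mkT h x hx + mkT h y hy = mkT h (x * y) (mul_mem hx hy) := rfl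

theorem mkT_zero (h : Dat L W Y D) : mkT h 1 (one_mem _) = 0 := rfl

theorem mkT_eq_zero (h : Dat L W Y D) {x : G} {hx : x ∈ W} : mkT h x hx = 0 ↔ x ∈ Y := by
  rw [← mkT_zero, mkT_eq, mul_one, inv_mem_iff]

theorem mkT_neg (h : Dat L W Y D) {x : G} (hx : x ∈ W) : -mkT h x hx = mkT h x⁻¹ (inv_mem hx) := rfl

/-- The action of `L`. -/
instance (h : Dat L W Y D) : SMul L (TT h) :=
  ⟨fun r t => Quotient.liftOn' (Additive.toMul t : W ⧸ Y.subgroupOf W)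
    (fun x => mkT h (r * x * (r : G)⁻¹) (h.nW r r.2 x x.2)) (by
      rintro ⟨x, hx⟩ ⟨y, hy⟩ hxy
      rw [mkT_eq]
      have hxy' : x⁻¹ * y ∈ Y := (QuotientGroup.leftRel_apply (s := Y.subgroupOf W)).1 hxy
      have e : ((r : G) * x * (r : G)⁻¹)⁻¹ * (r * y * (r : G)⁻¹) = r * (x⁻¹ * y) * (r : G)⁻¹ := by group
      change ((r : G) * x * (r : G)⁻¹)⁻¹ * (r * y * (r : G)⁻¹) ∈ Y
      rw [e]
      exact h.nY r r.2 _ hxy')⟩

theorem smul_mkT (h : Dat L W Y D) (r : L) {x : G} (hx : x ∈ W) :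
    r • mkT h x hx = mkT h (r * x * (r : G)⁻¹) (h.nW r r.2 x hx) := rfl

instance (h : Dat L W Y D) : DistribMulAction L (TT h) where
  one_smul t := by
    obtain ⟨x, hx, rfl⟩ := mkT_surj h t
    rw [smul_mkT, mkT_eq]
    have e : (((1 : L) : G) * x * ((1 : L) : G)⁻¹)⁻¹ * x = 1 := by
      rw [OneMemClass.coe_one]; group
    rw [e]; exact one_mem _
  mul_smul r s t := by
    obtain ⟨x, hx, rfl⟩ := mkT_surj h t
    rw [smul_mkT, smul_mkT, smul_mkT, mkT_eq]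
    have e : (((r * s : L) : G) * x * ((r * s : L) : G)⁻¹)⁻¹ * (r * (s * x * (s : G)⁻¹) * (r : G)⁻¹) = 1 := by
      rw [Subgroup.coe_mul]; group
    rw [e]; exact one_mem _
  smul_zero r := by
    rw [← mkT_zero, smul_mkT, mkT_eq]
    have e : ((r : G) * 1 * (r : G)⁻¹)⁻¹ * 1 = 1 := by group
    rw [e]; exact one_mem _
  smul_add r s t := by
    obtain ⟨x, hx, rfl⟩ := mkT_surj h s
    obtain ⟨y, hy, rfl⟩ := mkT_surj h t
    rw [mkT_add, smul_mkT, smul_mkT, smul_mkT, mkT_add, mkT_eq]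
    have e : ((r : G) * (x * y) * (r : G)⁻¹)⁻¹ * (r * x * (r : G)⁻¹ * (r * y * (r : G)⁻¹)) = 1 := by group
    rw [e]; exact one_mem _

/-- `D`, written additively. -/
def WW (_ : Dat L W Y D) : Type _ := Additive D

/-- The element of `WW`. -/
def mkW (h : Dat L W Y D) (v : G) (hv : v ∈ D) : WW h := Additive.ofMul (⟨v, hv⟩ : D)

theorem mkW_surj (h : Dat L W Y D) (w : WW h) : ∃ v, ∃ hv : v ∈ D, mkW h v hv = w :=
  ⟨(show D from w).1, (show D from w).2, rfl⟩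

theorem mkW_eq (h : Dat L W Y D) {x y : G} {hx : x ∈ D} {hy : y ∈ D} : mkW h x hx = mkW h y hy ↔ x = y := by
  constructor
  · intro e
    exact congrArg (fun w : WW h => (show D from w).1) e
  · rintro rfl; rfl

instance (h : Dat L W Y D) : AddCommGroup (WW h) :=
  { (inferInstance : AddGroup (Additive D)) with
    add_comm := by
      intro s t
      obtain ⟨x, hx, rfl⟩ := mkW_surj h s
      obtain ⟨y, hy, rfl⟩ := mkW_surj h t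
      change mkW h (x * y) (mul_mem hx hy) = mkW h (y * x) (mul_mem hy hx)
      rw [mkW_eq]
      exact h.cY x (h.DY hx) y (h.YW (h.DY hy)) }

theorem mkW_add (h : Dat L W Y D) {x y : G} (hx : x ∈ D) (hy : y ∈ D) :
    mkW h x hx + mkW h y hy = mkW h (x * y) (mul_mem hx hy) := rfl

theorem mkW_zero (h : Dat L W Y D) : mkW h 1 (one_mem _) = 0 := rfl

theorem mkW_eq_zero (h : Dat L W Y D) {x : G} {hx : x ∈ D} : mkW h x hx = 0 ↔ x = 1 := by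
  rw [← mkW_zero, mkW_eq]

theorem sq_aux (h : Dat L W Y D) {x y : G} (hx : x ∈ W) (hxy : x⁻¹ * y ∈ Y) : x * x = y * y := by
  have hy : y = x * (x⁻¹ * y) := by group
  set v := x⁻¹ * y with hv
  have h1 := h.cY v hxy x hx
  calc x * x = x * x * (v * v) := by rw [h.Ysq v hxy, mul_one]
    _ = x * (x * v) * v := by group
    _ = x * (v * x) * v := by rw [h1]
    _ = (x * v) * (x * v) := by group
    _ = y * y := by rw [← hy]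

theorem comm_aux (h : Dat L W Y D) {x y x' y' : G} (hx : x ∈ W) (hy : y ∈ W) (hxx : x⁻¹ * x' ∈ Y)
    (hyy : y⁻¹ * y' ∈ Y) : x * y * x⁻¹ * y⁻¹ = x' * y' * x'⁻¹ * y'⁻¹ := by
  have hx' : x' = x * (x⁻¹ * x') := by group
  have hy' : y' = y * (y⁻¹ * y') := by group
  set v := x⁻¹ * x' with hv
  set w := y⁻¹ * y' with hw
  rw [hx', hy']
  have h1 := h.cY v hxx y hy
  have h3 := h.cY v hxx w (h.YW hyy)
  have e1 : x * v * (y * w) * (x * v)⁻¹ * (y * w)⁻¹ = x * (v * y) * w * v⁻¹ * x⁻¹ * w⁻¹ * y⁻¹ := by group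
  have e2 : x * (y * v) * w * v⁻¹ * x⁻¹ * w⁻¹ * y⁻¹ = x * y * (v * w) * v⁻¹ * x⁻¹ * w⁻¹ * y⁻¹ := by group
  have e3 : x * y * (w * v) * v⁻¹ * x⁻¹ * w⁻¹ * y⁻¹ = x * y * (w * x⁻¹) * w⁻¹ * y⁻¹ := by group
  have h5 := h.cY w hyy x⁻¹ (inv_mem hx)
  have e4 : x * y * (x⁻¹ * w) * w⁻¹ * y⁻¹ = x * y * x⁻¹ * y⁻¹ := by group
  rw [e1, h1, e2, h3, e3, h5, e4]

/-- The quadratic map. -/
def qq (h : Dat L W Y D) (t : TT h) : WW h :=
  Quotient.liftOn' (Additive.toMul t : W ⧸ Y.subgroupOf W) (fun x => mkW h (x * x) (h.sq x x.2)) (by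
    rintro ⟨x, hx⟩ ⟨y, hy⟩ hxy
    rw [mkW_eq]
    have hxy' : x⁻¹ * y ∈ Y := (QuotientGroup.leftRel_apply (s := Y.subgroupOf W)).1 hxy
    exact sq_aux h hx hxy')

theorem qq_mk (h : Dat L W Y D) {x : G} (hx : x ∈ W) : qq h (mkT h x hx) = mkW h (x * x) (h.sq x hx) := rfl

/-- The bilinear map. -/
def bb (h : Dat L W Y D) (s t : TT h) : WW h :=
  Quotient.liftOn₂' (Additive.toMul s : W ⧸ Y.subgroupOf W)
    (Additive.toMul t : W ⧸ Y.subgroupOf W)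
    (fun x y => mkW h (x * y * (x : G)⁻¹ * (y : G)⁻¹) (h.cm x x.2 y y.2)) (by
    rintro ⟨x, hx⟩ ⟨y, hy⟩ ⟨x', hx'⟩ ⟨y', hy'⟩ hxx hyy
    rw [mkW_eq]
    have hxx' : x⁻¹ * x' ∈ Y := (QuotientGroup.leftRel_apply (s := Y.subgroupOf W)).1 hxx
    have hyy' : y⁻¹ * y' ∈ Y := (QuotientGroup.leftRel_apply (s := Y.subgroupOf W)).1 hyy
    exact comm_aux h hx hy hxx' hyy')

theorem bb_mk (h : Dat L W Y D) {x y : G} (hx : x ∈ W) (hy : y ∈ W) :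
    bb h (mkT h x hx) (mkT h y hy) = mkW h (x * y * x⁻¹ * y⁻¹) (h.cm x hx y hy) := rfl

theorem add (h : Dat L W Y D) (s t : TT h) : qq h (s + t) = qq h s + qq h t + bb h s t := by
  obtain ⟨x, hx, rfl⟩ := mkT_surj h s
  obtain ⟨y, hy, rfl⟩ := mkT_surj h t
  rw [mkT_add, qq_mk, qq_mk, qq_mk, bb_mk, mkW_add, mkW_add, mkW_eq]
  have hc : x⁻¹ * y * x⁻¹⁻¹ * y⁻¹ ∈ D := h.cm _ (inv_mem hx) y hy
  have h1 := h.cY _ (h.DY hc) y hy
  have h2 : x * y * x⁻¹ * y⁻¹ = (x⁻¹ * y * x⁻¹⁻¹ * y⁻¹)⁻¹ := by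
    calc x * y * x⁻¹ * y⁻¹ = x * (x⁻¹ * y * x⁻¹⁻¹ * y⁻¹)⁻¹ * x⁻¹ := by group
      _ = (x⁻¹ * y * x⁻¹⁻¹ * y⁻¹)⁻¹ * x * x⁻¹ := by rw [h.cY _ (inv_mem (h.DY hc)) x hx]
      _ = _ := by group
  have h3 : (x⁻¹ * y * x⁻¹⁻¹ * y⁻¹)⁻¹ = x⁻¹ * y * x⁻¹⁻¹ * y⁻¹ :=
    inv_eq_of_mul_eq_one_left (h.Ysq _ (h.DY hc))
  rw [h2, h3]
  calc x * y * (x * y) = (x * x) * ((x⁻¹ * y * x⁻¹⁻¹ * y⁻¹) * y) * y := by group
    _ = (x * x) * (y * (x⁻¹ * y * x⁻¹⁻¹ * y⁻¹)) * y := by rw [h1]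
    _ = (x * x) * y * ((x⁻¹ * y * x⁻¹⁻¹ * y⁻¹) * y) := by group
    _ = (x * x) * y * (y * (x⁻¹ * y * x⁻¹⁻¹ * y⁻¹)) := by rw [h1]
    _ = x * x * (y * y) * (x⁻¹ * y * x⁻¹⁻¹ * y⁻¹) := by group

theorem ladd (h : Dat L W Y D) (s t u : TT h) : bb h (s + t) u = bb h s u + bb h t u := by
  obtain ⟨x, hx, rfl⟩ := mkT_surj h s
  obtain ⟨y, hy, rfl⟩ := mkT_surj h t
  obtain ⟨w, hw, rfl⟩ := mkT_surj h u
  rw [mkT_add, bb_mk, bb_mk, bb_mk, mkW_add, mkW_eq]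
  have hc := h.cm y hy w hw
  have hc' := h.cm x hx w hw
  have h1 := h.cY _ (h.DY hc) x hx
  have h2 := h.cY _ (h.DY hc) _ (h.YW (h.DY hc'))
  calc x * y * w * (x * y)⁻¹ * w⁻¹ = (x * (y * w * y⁻¹ * w⁻¹)) * (w * x⁻¹ * w⁻¹) := by group
    _ = ((y * w * y⁻¹ * w⁻¹) * x) * (w * x⁻¹ * w⁻¹) := by rw [h1]
    _ = (y * w * y⁻¹ * w⁻¹) * (x * w * x⁻¹ * w⁻¹) := by group
    _ = _ := h2

theorem finv (h : Dat L W Y D) (l : L) (s t : TT h) : bb h (l • s) (l • t) = bb h s t := by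
  obtain ⟨x, hx, rfl⟩ := mkT_surj h s
  obtain ⟨y, hy, rfl⟩ := mkT_surj h t
  rw [smul_mkT, smul_mkT, bb_mk, bb_mk, mkW_eq]
  have := h.cD _ (h.cm x hx y hy) l l.2
  rw [← this]
  group

theorem qinv (h : Dat L W Y D) (l : L) (s : TT h) : qq h (l • s) = qq h s := by
  obtain ⟨x, hx, rfl⟩ := mkT_surj h s
  rw [smul_mkT, qq_mk, qq_mk, mkW_eq]
  have := h.cD _ (h.sq x hx) l l.2
  rw [← this]
  group

theorem hyp (h : Dat L W Y D) {B Q : Subgroup L} (QB : Q ≤ B)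
    (quad : ∀ b ∈ B, ∀ b' ∈ B, ∀ w ∈ W,
      (b' : G) * ((b : G) * w * (b : G)⁻¹ * w⁻¹) * (b' : G)⁻¹ * ((b : G) * w * (b : G)⁻¹ * w⁻¹)⁻¹ ∈ Y)
    (gen : ∀ g : L, cjS g B ≠ B → ∀ X : Subgroup L, B ≤ X → cjS g B ≤ X → X = ⊤)
    (ti : ∀ g : L, cjS g B ≠ B → ∀ b ∈ B, b ∉ Q → cjS b (cjS g B) ≠ cjS g B) :
    Hyp (M := TT h) (D := WW h) (qq h) (bb h) B Q where
  add := add h
  ladd := ladd h
  two := by
    intro t
    obtain ⟨x, hx, rfl⟩ := mkT_surj h t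
    rw [mkT_add, mkT_eq_zero]
    exact h.DY (h.sq x hx)
  two' := by
    intro t
    obtain ⟨x, hx, rfl⟩ := mkW_surj h t
    rw [mkW_add, mkW_eq_zero]
    exact h.Ysq x (h.DY hx)
  finv := finv h
  qinv := qinv h
  QB := QB
  quad := by
    intro b hb b' hb' t
    obtain ⟨w, hw, rfl⟩ := mkT_surj h t
    have h1 : b • mkT h w hw - mkT h w hw = mkT h ((b : G) * w * (b : G)⁻¹ * w⁻¹)
        (mul_mem (h.nW b b.2 w hw) (inv_mem hw)) := by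
      rw [sub_eq_add_neg, mkT_neg, smul_mkT, mkT_add]
    rw [h1, smul_mkT, mkT_eq]
    have h2 := quad b hb b' hb' w hw
    set c := (b : G) * w * (b : G)⁻¹ * w⁻¹ with hc
    have hcW : c ∈ W := mul_mem (h.nW b b.2 w hw) (inv_mem hw)
    have h3 := h.cY _ h2 c hcW
    -- `(b' c b'⁻¹)⁻¹ c`
    have e : (b' * c * (b' : G)⁻¹)⁻¹ * c = c⁻¹ * ((b' : G) * c * (b' : G)⁻¹ * c⁻¹)⁻¹ * c := by group
    rw [e, mul_assoc, h.cY _ (inv_mem h2) c hcW, inv_mul_cancel_left]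
    exact inv_mem h2
  gen := gen
  ti := ti

theorem mem_Fx (h : Dat L W Y D) {B : Subgroup L} {w : G} (hw : w ∈ W) :
    mkT h w hw ∈ Hyp.Fx (TT h) B ↔ ∀ b ∈ B, (b : G) * w * (b : G)⁻¹ * w⁻¹ ∈ Y := by
  constructor
  · intro h1 b hb
    have h2 := h1 b hb
    rw [smul_mkT, mkT_eq] at h2
    have e : (b : G) * w * (b : G)⁻¹ * w⁻¹ = w * (((b : G) * w * (b : G)⁻¹)⁻¹ * w)⁻¹ * w⁻¹ := by group
    rw [e, ← h.cY _ (inv_mem h2) w hw, mul_inv_cancel_right]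
    exact inv_mem h2
  · intro h1 b hb
    rw [smul_mkT, mkT_eq]
    have h2 := h1 b hb
    have e : ((b : G) * w * (b : G)⁻¹)⁻¹ * w = w⁻¹ * ((b : G) * w * (b : G)⁻¹ * w⁻¹)⁻¹ * w := by group
    rw [e, mul_assoc, h.cY _ (inv_mem h2) w hw, inv_mul_cancel_left]
    exact inv_mem h2

end Cfsg.Agent.SQ1.QQuo
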